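import Cfsg.Agent.Lib.FFPair.Structure
import Cfsg.Agent.Lib.PSolvable.Core
import Cfsg.Agent.Lib.TI.FaithfulDegree
import Cfsg.Agent.Lib.ZJ.Centers
import Cfsg.Agent.Lib.Transfer.ThompsonBasics
import Cfsg.Agent.Lib.Transfer.Sylow
import Cfsg.Agent.S0606

/-!
# The pair `(V, G/C)` attached to a normal elementary abelian subgroup

For normal `V` and `C ≤ C(V)` a group containing copies of `V` and of `G/C` with the induced action.
-/

set_option autoImplicit false
set_option linter.style.haveILetI false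

namespace Cfsg.Agent.FFPair

open Cfsg CfsgLib
open scoped commutatorElement

universe u

variable {G : Type u} [Group G]

/-- Data of a model of the action of `G / C` on `V`. -/
structure Model (V C : Subgroup G) (M : Type u) [Group M] where
  hom : G →* M
  emb : V →* M
  emb_inj : Function.Injective emb
  ker_hom : hom.ker = C
  equivariant : ∀ (g : G) (v w : V), (w : G) = g * v * g⁻¹ →
    hom g * emb v * (hom g)⁻¹ = emb w

/-- Models exist. -/
theorem exists_model [Finite G] (V C : Subgroup G) [V.Normal] [C.Normal]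
    (hC : C ≤ Subgroup.centralizer (V : Set G)) :
    ∃ (M : Type u) (_ : Group M) (_ : Finite M), Nonempty (Model V C M) := by
  have hker : C ≤ (MulAut.conjNormal (H := V)).ker := fun c hc => by
    rw [MonoidHom.mem_ker]
    refine MulEquiv.ext fun v => Subtype.ext ?_
    show c * (v : G) * c⁻¹ = (v : G)
    rw [← hC hc v v.2, mul_inv_cancel_right]
  let φ : G ⧸ C →* MulAut V := QuotientGroup.lift C MulAut.conjNormal hker
  haveI : Finite (V ⋊[φ] (G ⧸ C)) :=
    Finite.of_equiv (V × (G ⧸ C)) SemidirectProduct.equivProd.symm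
  refine ⟨V ⋊[φ] (G ⧸ C), inferInstance, inferInstance,
    ⟨SemidirectProduct.inr.comp (QuotientGroup.mk' C), SemidirectProduct.inl,
      SemidirectProduct.inl_injective, ?_, ?_⟩⟩
  · rw [← MonoidHom.comap_ker, (MonoidHom.ker_eq_bot_iff _).2 SemidirectProduct.inr_injective,
      MonoidHom.comap_bot, QuotientGroup.ker_mk']
  · intro g v w hw
    show SemidirectProduct.inr (QuotientGroup.mk' C g) * SemidirectProduct.inl v *
      (SemidirectProduct.inr (QuotientGroup.mk' C g))⁻¹ = SemidirectProduct.inl w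
    rw [← map_inv, ← SemidirectProduct.inl_aut]
    exact congrArg _ (Subtype.ext hw.symm)

namespace Model

variable {V C : Subgroup G} {M : Type u} [Group M] (D : Model V C M)

/-- The copy of `V`. -/
abbrev img : Subgroup M := D.emb.range

theorem mem_ker_iff {g : G} : D.hom g = 1 ↔ g ∈ C := by
  rw [← MonoidHom.mem_ker, D.ker_hom]

theorem norm [V.Normal] : D.hom.range ≤ Subgroup.normalizer (D.img : Set M) := by
  have key : ∀ g : G, ∀ x ∈ D.img, D.hom g * x * (D.hom g)⁻¹ ∈ D.img := by
    rintro g _ ⟨v, rfl⟩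
    exact ⟨⟨g * v * g⁻¹, (inferInstance : V.Normal).conj_mem v v.2 g⟩,
      (D.equivariant g v _ rfl).symm⟩
  rintro _ ⟨g, rfl⟩
  rw [Subgroup.mem_normalizer_iff]
  refine fun x => ⟨key g x, fun hx => ?_⟩
  have h := key g⁻¹ _ hx
  simpa [mul_assoc] using h

theorem elem {p : ℕ} (hV : IsElementaryAbelian p V) : IsElementaryAbelian p D.img := by
  refine ⟨⟨⟨?_⟩⟩, ?_⟩
  · rintro ⟨_, v, rfl⟩ ⟨_, w, rfl⟩
    refine Subtype.ext ?_
    show D.emb v * D.emb w = D.emb w * D.emb v
    rw [← map_mul, ← map_mul, hV.1.is_comm.comm]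
  · rintro _ ⟨v, rfl⟩
    rw [← map_pow, show v ^ p = 1 from Subtype.ext (hV.2 v v.2), map_one]

theorem commute_iff [V.Normal] (g : G) (v : V) :
    D.emb v * D.hom g = D.hom g * D.emb v ↔ (v : G) * g = g * v := by
  rw [eq_comm, ← mul_inv_eq_iff_eq_mul,
    D.equivariant g v ⟨g * v * g⁻¹, (inferInstance : V.Normal).conj_mem v v.2 g⟩ rfl,
    D.emb_inj.eq_iff, Subtype.ext_iff, eq_comm (a := (v : G) * g), mul_inv_eq_iff_eq_mul]

theorem mem_centralizer_iff [V.Normal] {g : G} :
    D.hom g ∈ Subgroup.centralizer (D.img : Set M) ↔ g ∈ Subgroup.centralizer (V : Set G) := by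
  constructor
  · intro h v hv
    exact (D.commute_iff g ⟨v, hv⟩).1 (h _ ⟨⟨v, hv⟩, rfl⟩)
  · rintro h _ ⟨v, rfl⟩
    exact (D.commute_iff g v).2 (h v v.2)

theorem cfix_eq [V.Normal] (A : Subgroup G) :
    cfix D.img (A.map D.hom) = ((cfix V A).subgroupOf V).map D.emb := by
  ext x
  constructor
  · rintro ⟨⟨v, rfl⟩, hx⟩
    refine ⟨v, ⟨v.2, fun a ha => ?_⟩, rfl⟩
    exact ((D.commute_iff a v).1 (hx _ ⟨a, ha, rfl⟩).symm).symm
  · rintro ⟨v, hv, rfl⟩
    refine ⟨⟨v, rfl⟩, ?_⟩
    rintro _ ⟨a, ha, rfl⟩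
    exact ((D.commute_iff a v).2 (hv.2 a ha).symm).symm

theorem card_cfix [V.Normal] (A : Subgroup G) :
    Nat.card (cfix D.img (A.map D.hom)) = Nat.card (cfix V A) := by
  rw [D.cfix_eq, Subgroup.card_map_of_injective D.emb_inj,
    Nat.card_congr (Subgroup.subgroupOfEquivOfLe (inf_le_left : cfix V A ≤ V)).toEquiv]

theorem card_img : Nat.card D.img = Nat.card V :=
  (Nat.card_congr (MonoidHom.ofInjective D.emb_inj).toEquiv).symm

theorem card_map [Finite G] (A : Subgroup G) :
    Nat.card (A.map D.hom) * Nat.card ↥(C ⊓ A) = Nat.card A := by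
  have h := Coprime.relIndex_mul_card_inf D.hom.ker A
  rw [Subgroup.relIndex_ker] at h
  rw [D.ker_hom] at h
  exact h

theorem offender [Finite G] [V.Normal] {p : ℕ} {A : Subgroup G} (hA : IsBestOffenderOn p V A) :
    IsBestOffenderOn p D.img (A.map D.hom) := by
  refine ⟨fun B hB => ?_, ?_, ?_⟩
  · set B0 := A ⊓ B.comap D.hom with hB0
    have hmap : B0.map D.hom = B := by
      refine le_antisymm (Subgroup.map_le_iff_le_comap.2 inf_le_right) fun b hb => ?_
      obtain ⟨a, ha, rfl⟩ := hB hb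
      exact ⟨a, ⟨ha, hb⟩, rfl⟩
    have hinf : C ⊓ B0 = C ⊓ A := le_antisymm (inf_le_inf_left C inf_le_left)
      (le_inf inf_le_left (le_inf inf_le_right fun c hc => by
        rw [Subgroup.mem_comap, D.mem_ker_iff.2 hc.1]; exact one_mem B))
    have h := hA.1 B0 inf_le_left
    rw [← hmap]
    show Nat.card (B0.map D.hom) * Nat.card (cfix D.img (B0.map D.hom)) ≤
      Nat.card (A.map D.hom) * Nat.card (cfix D.img (A.map D.hom))
    rw [D.card_cfix, D.card_cfix]
    rw [← D.card_map B0, ← D.card_map A, hinf] at h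
    refine Nat.le_of_mul_le_mul_left ?_ (Nat.card_pos (α := ↥(C ⊓ A)))
    calc Nat.card ↥(C ⊓ A) * (Nat.card (B0.map D.hom) * Nat.card (cfix V B0))
        = Nat.card (B0.map D.hom) * Nat.card ↥(C ⊓ A) * Nat.card (cfix V B0) := by ring
      _ ≤ Nat.card (A.map D.hom) * Nat.card ↥(C ⊓ A) * Nat.card (cfix V A) := h
      _ = _ := by ring
  · rw [← Subgroup.map_commutator]
    rintro _ ⟨a, ha, rfl⟩
    exact D.mem_centralizer_iff.2 (hA.2.1 ha)
  · rintro _ ⟨a, ha, rfl⟩
    rw [← map_pow]
    exact D.mem_centralizer_iff.2 (hA.2.2 a ha)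

variable [Finite G] {p : ℕ} [hp : Fact p.Prime] [Finite M]

/-- The image of a `p`-solvable normal subgroup satisfies the hypotheses of the offender theory. -/
theorem setting [V.Normal] {L R : Subgroup G} [R.Normal] (hV : IsElementaryAbelian p V)
    (hR : C ≤ R) (hRL : R ≤ L) (hsep : IsPSolvable p L)
    (hC : L ⊓ Subgroup.centralizer (V : Set G) ≤ C)
    (hOp : ∀ N : Subgroup G, N.Normal → C ≤ N → N ≤ L → (∃ n, C.relIndex N = p ^ n) → N = C) :
    Setting p D.img ((pPrimeCore p ↥(R.map D.hom)).map (R.map D.hom).subtype) (R.map D.hom) := by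
  set H := R.map D.hom with hH
  have hHr : H ≤ D.hom.range := Subgroup.map_le_range D.hom R
  refine setting_of_pPrimeCore (D.elem hV) (hHr.trans D.norm) ?_ ?_
  · rw [eq_bot_iff]
    rintro _ ⟨⟨r, hr, rfl⟩, h⟩
    exact Subgroup.mem_bot.2 (D.mem_ker_iff.2 (hC ⟨hRL hr, D.mem_centralizer_iff.1 h⟩))
  have hs : IsPSolvable p H :=
    PSolvable.isPSolvable_of_surjective (D.hom.subgroupMap R) (D.hom.subgroupMap_surjective R)
      (PSolvable.isPSolvable_of_injective (Subgroup.inclusion hRL)
        (Subgroup.inclusion_injective hRL) hsep)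
  refine TIDegree.centralizer_pPrimeCore_le hs ?_
  set P := (pCore p H).map H.subtype with hP
  set N := P.comap D.hom with hN
  have hNn : N.Normal := by
    refine ⟨fun n hn g => ?_⟩
    have hg : D.hom g ∈ Subgroup.normalizer (H : Set M) := by
      refine Subgroup.le_normalizer_map D.hom ⟨g, ?_, rfl⟩
      rw [Subgroup.normalizer_eq_top_iff.2 inferInstance]
      trivial
    have h := (Subgroup.mem_normalizer_iff.1
      (PSolvable.le_normalizer_map_of_characteristic le_rfl (pCore p H) hg) _).1 hn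
    rw [hN, Subgroup.mem_comap, map_mul, map_mul, map_inv]
    exact h
  have hCN : C ≤ N := fun c hc => by
    rw [hN, Subgroup.mem_comap, D.mem_ker_iff.2 hc]; exact one_mem P
  have hNR : N ≤ R := by
    refine (Subgroup.comap_mono (Subgroup.map_subtype_le _)).trans ?_
    rw [Subgroup.comap_map_eq, D.ker_hom, sup_eq_left.2 hR]
  have hmap : N.map D.hom = P :=
    Subgroup.map_comap_eq_self ((Subgroup.map_subtype_le _).trans hHr)
  have hidx : C.relIndex N = Nat.card P := by
    rw [← D.ker_hom, Subgroup.relIndex_ker, ← hmap]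
  obtain ⟨n, hn⟩ := IsPGroup.iff_card.1 (((Fitting.pCore_isPGroup p).map H.subtype : IsPGroup p P))
  have hNC := hOp N hNn hCN (hNR.trans hRL) ⟨n, hidx.trans hn⟩
  rw [← Subgroup.map_eq_bot_iff_of_injective _ H.subtype_injective, ← hP, ← hmap, hNC,
    Subgroup.map_eq_bot_iff, D.ker_hom]

end Model

/-! ### The subgroup generated by the `Ω₁(Z(S))` -/

/-- The join of the `Ω₁(Z(S))`, `S` Sylow. -/
abbrev omegaV (p : ℕ) (G : Type u) [Group G] : Subgroup G :=
  ⨆ S : Sylow p G, omegaOne p ((S : Subgroup G) ⊓ Subgroup.centralizer ((S : Subgroup G) : Set G))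

variable [Finite G] {p : ℕ} [hp : Fact p.Prime]

theorem omegaV_elem (hsep : IsPSolvable p G) (hO : pPrimeCore p G = ⊥) :
    IsElementaryAbelian p (omegaV p G) := by
  have hcent := PSolvable.centralizer_pCore_le hsep hO
  have hle : omegaV p G ≤
      Cfsg.pCore p G ⊓ Subgroup.centralizer (Cfsg.pCore p G : Set G) := by
    refine iSup_le fun S => ?_
    have hR : Cfsg.pCore p G ≤ (S : Subgroup G) := by
      rw [Fitting.pCore_eq_iInf_sylow]; exact iInf_le _ S
    have h1 : omegaOne p ((S : Subgroup G) ⊓ Subgroup.centralizer ((S : Subgroup G) : Set G)) ≤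
        Subgroup.centralizer (Cfsg.pCore p G : Set G) :=
      (ZJ.omegaOne_le p _).trans (inf_le_right.trans (Subgroup.centralizer_le hR))
    exact le_inf (h1.trans hcent) h1
  have hc : ∀ a ∈ omegaV p G, ∀ b ∈ omegaV p G, a * b = b * a := fun a ha b hb =>
    (hle hb).2 a (hle ha).1
  refine ⟨⟨⟨fun a b => Subtype.ext (hc a a.2 b b.2)⟩⟩, fun a ha => ?_⟩
  suffices omegaV p G ≤ Subgroup.closure {x : G | x ∈ omegaV p G ∧ x ^ p = 1} by
    refine Subgroup.closure_induction (p := fun x _ => x ^ p = 1) (fun x hx => hx.2) (one_pow p)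
      (fun x y hx hy h1 h2 => ?_) (fun x _ h1 => by rw [inv_pow, h1, inv_one]) (this ha)
    have hcl : Subgroup.closure {x : G | x ∈ omegaV p G ∧ x ^ p = 1} ≤ omegaV p G :=
      (Subgroup.closure_le _).2 fun _ h => h.1
    rw [(show Commute x y from hc x (hcl hx) y (hcl hy)).mul_pow, h1, h2, one_mul]
  refine iSup_le fun S => (Subgroup.closure_le _).2 fun x hx => Subgroup.subset_closure ⟨?_, hx.2⟩
  exact le_iSup (fun S : Sylow p G =>
    omegaOne p ((S : Subgroup G) ⊓ Subgroup.centralizer ((S : Subgroup G) : Set G))) S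
    (Subgroup.subset_closure hx)

instance omegaV_characteristic : (omegaV p G).Characteristic := by
  rw [Subgroup.characteristic_iff_map_le]
  intro φ
  rw [Subgroup.map_iSup]
  refine iSup_le fun S => le_iSup_of_le (S.mapSurjective (f := φ.toMonoidHom) φ.surjective) ?_
  rw [ZJ.map_omegaOne p φ.toMonoidHom φ.injective.injOn,
    Subgroup.map_inf_eq _ _ _ φ.injective]
  refine le_of_eq (congrArg _ ?_)
  show _ = (S : Subgroup G).map φ.toMonoidHom ⊓
    Subgroup.centralizer (((S : Subgroup G).map φ.toMonoidHom : Subgroup G) : Set G)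
  congr 1
  ext x
  constructor
  · rintro ⟨y, hy, rfl⟩ _ ⟨s, hs, rfl⟩
    rw [← map_mul, ← map_mul, hy s hs]
  · intro hx
    refine ⟨φ.symm x, fun s hs => φ.injective ?_, φ.apply_symm_apply x⟩
    rw [map_mul, map_mul, φ.apply_symm_apply]
    exact hx _ ⟨s, hs, rfl⟩

theorem eq_centralizer_of_relIndex {N : Subgroup G} [N.Normal]
    (hN : Subgroup.centralizer (omegaV p G : Set G) ≤ N) {n : ℕ}
    (hn : (Subgroup.centralizer (omegaV p G : Set G)).relIndex N = p ^ n) :
    N = Subgroup.centralizer (omegaV p G : Set G) := by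
  refine le_antisymm ?_ hN
  set C := Subgroup.centralizer (omegaV p G : Set G) with hC
  rw [hC, Subgroup.le_centralizer_iff]
  refine iSup_le fun S => Subgroup.le_centralizer_iff.1 ?_
  have h1 : N ≤ ((S : Subgroup G) ⊓ N) ⊔ C := by
    rw [← Subgroup.relIndex_eq_one]
    refine Nat.eq_one_of_dvd_coprimes ((hp.out.coprime_iff_not_dvd.2 S.not_dvd_index).pow_left n)
      (hn ▸ Subgroup.relIndex_dvd_of_le_left N le_sup_right) ?_
    refine (Subgroup.relIndex_dvd_of_le_left N le_sup_left).trans ?_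
    rw [Subgroup.inf_relIndex_right]
    exact Fitting.relIndex_dvd_index_of_normal_right _ N
  refine h1.trans (sup_le (inf_le_left.trans ?_) (Subgroup.centralizer_le ?_))
  · rw [Subgroup.le_centralizer_iff]
    exact (ZJ.omegaOne_le p _).trans inf_le_right
  · exact fun x hx => le_iSup (fun S : Sylow p G =>
      omegaOne p ((S : Subgroup G) ⊓ Subgroup.centralizer ((S : Subgroup G) : Set G))) S hx

end Cfsg.Agent.FFPair
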