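import Cfsg.Agent.Lib.FFPair.Model

/-!
# The action of `J(G)` on a normal elementary abelian subgroup
-/

set_option autoImplicit false
set_option linter.style.haveILetI false

namespace Cfsg.Agent.FFPair

open Cfsg CfsgLib
open scoped commutatorElement

universe u

variable {G : Type u} [Group G] [Finite G] {p : ℕ} [hp : Fact p.Prime]

theorem thompsonSubgroup_normal : (thompsonSubgroup p G).Normal := by
  rw [ZJ.thompsonSubgroup_eq_top, ← Subgroup.normalizer_eq_top_iff, ← top_le_iff]
  exact le_trans (Subgroup.le_normalizer) (Transfer.normalizer_le_normalizer_thompsonJ p ⊤)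

/-- For `L = ⊤`. -/
theorem setting_top {V : Subgroup G} [V.Normal] {M : Type u} [Group M] [Finite M]
    (D : Model V (Subgroup.centralizer (V : Set G)) M) {R : Subgroup G} [R.Normal]
    (hV : IsElementaryAbelian p V) (hR : Subgroup.centralizer (V : Set G) ≤ R)
    (hsep : IsPSolvable p G)
    (hOp : ∀ N : Subgroup G, N.Normal → Subgroup.centralizer (V : Set G) ≤ N →
      (∃ n, (Subgroup.centralizer (V : Set G)).relIndex N = p ^ n) →
        N = Subgroup.centralizer (V : Set G)) :
    Setting p D.img ((pPrimeCore p ↥(R.map D.hom)).map (R.map D.hom).subtype) (R.map D.hom) :=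
  D.setting hV hR le_top (PSolvable.isPSolvable_subgroup ⊤ hsep) inf_le_right
    fun N hN hCN _ h => hOp N hN hCN h

/-- If `J(G)` does not centralize `V` then it is generated modulo `C(V)` by offenders. -/
theorem iSup_offenders {V C : Subgroup G} [V.Normal] (hV : IsElementaryAbelian p V)
    {M : Type u} [Group M] (D : Model V C M) :
    (thompsonSubgroup p G ⊔ C).map D.hom =
      ⨆ A : {A : Subgroup M // A ≤ (thompsonSubgroup p G ⊔ C).map D.hom ∧
        IsBestOffenderOn p D.img A}, (A : Subgroup M) := by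
  refine le_antisymm ?_ (iSup_le fun A => A.2.1)
  have hC : C.map D.hom = ⊥ := by rw [Subgroup.map_eq_bot_iff, D.ker_hom]
  conv_lhs => rw [Subgroup.map_sup, hC, sup_bot_eq]
  unfold thompsonSubgroup
  rw [sSup_eq_iSup', Subgroup.map_iSup]
  refine iSup_le fun A => ?_
  refine le_iSup_of_le (⟨A.1.map D.hom, ⟨Subgroup.map_mono ?_,
    D.offender (Cfsg.Agent.S0606.result V hV A.1 A.2)⟩⟩) le_rfl
  exact le_sup_of_le_left (le_sSup ⟨A, rfl⟩)

/-- The module facts used for `S0619`. -/
theorem commutator_omega_le (hsep : IsPSolvable p G) (V : Subgroup G) [V.Normal]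
    (hV : IsElementaryAbelian p V) (hO : Cfsg.pCore p (G ⧸ Subgroup.centralizer (V : Set G)) = ⊥) :
    ⁅omegaOne p (centerThompsonOf p (Subgroup.centralizer (V : Set G))),
      thompsonSubgroup p G⁆ ≤ V := by
  set C := Subgroup.centralizer (V : Set G) with hC
  obtain ⟨M, iM, iF, ⟨D⟩⟩ := exists_model V C le_rfl
  letI := iM
  haveI := iF
  have hS := setting_top D (R := ⊤) hV le_top hsep (fun N hN hCN ⟨n, hn⟩ => by
    haveI := hN
    have h1 : N.map (QuotientGroup.mk' C) ≤ Cfsg.pCore p (G ⧸ C) := by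
      refine Fitting.le_pCore (hN.map _ (QuotientGroup.mk'_surjective C))
        (IsPGroup.of_card (n := n) ?_)
      have h2 : (QuotientGroup.mk' C).ker.relIndex N = p ^ n := by rwa [QuotientGroup.ker_mk']
      rw [← h2, Subgroup.relIndex_ker]
    rw [hO, le_bot_iff, Subgroup.map_eq_bot_iff, QuotientGroup.ker_mk'] at h1
    exact le_antisymm h1 hCN)
  set W := omegaOne p (centerThompsonOf p C) with hW
  have hWc : ∀ x ∈ W, x ∈ Subgroup.centralizer (Cfsg.thompsonSubgroupOf p C : Set G) :=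
    fun x hx => (ZJ.omegaOne_le p _ hx).2
  have hWJ : ∀ x ∈ W, x ∈ Cfsg.thompsonSubgroupOf p C := fun x hx => (ZJ.omegaOne_le p _ hx).1
  have hWe : IsElementaryAbelian p W := by
    have hcm : ∀ x ∈ W, ∀ y ∈ W, x * y = y * x := fun x hx y hy => hWc y hy x (hWJ x hx)
    refine ⟨⟨⟨fun x y => Subtype.ext (hcm x x.2 y y.2)⟩⟩, fun x hx => ?_⟩
    refine Subgroup.closure_induction (p := fun x _ => x ^ p = 1) (fun x hx => hx.2) (one_pow p)
      (fun x y hx hy h1 h2 => ?_) (fun x _ h1 => by rw [inv_pow, h1, inv_one]) hx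
    rw [(show Commute x y from hcm x hx y hy).mul_pow, h1, h2, one_mul]
  suffices thompsonSubgroup p G ≤ trivOn W V from (le_trivOn_iff.1 this).2
  refine sSup_le fun A hA => ?_
  refine le_trivOn_iff.2 ⟨Subgroup.le_normalizer_of_normal, ?_⟩
  obtain ⟨hAe, hAm⟩ := hA
  set A0 := C ⊓ A with hA0
  have hb := D.offender (Cfsg.Agent.S0606.result V hV A ⟨hAe, hAm⟩)
  have heq := hS.offender_eq (Subgroup.map_mono le_top) hb
  rw [D.card_cfix, D.card_img] at heq
  have hA0e : IsElementaryAbelian p A0 := ⟨⟨⟨fun a b => Subtype.ext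
    (commute_of_elem hAe a.2.2 b.2.2)⟩⟩, fun a ha => hAe.2 a ha.2⟩
  have hA0V : A0 ≤ Subgroup.centralizer (V : Set G) := inf_le_left
  have hsupe := Cfsg.Agent.S0606.elem_sup hV hA0e hA0V
  have hcard : Nat.card A ≤ Nat.card ↥(V ⊔ A0) := by
    have h1 := Coprime.card_sup_mul_card_inf (K := V) (S := A0) Subgroup.le_normalizer_of_normal
    have h2 : Nat.card ↥(V ⊓ A0) ≤ Nat.card (cfix V A) := Subgroup.card_le_of_le
      (le_inf inf_le_left fun x hx a ha => commute_of_elem hAe ha hx.2.2)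
    refine Nat.le_of_mul_le_mul_right ?_ (Nat.card_pos (α := cfix V A))
    calc Nat.card A * Nat.card (cfix V A)
        = Nat.card V * Nat.card A0 := by rw [← D.card_map A, ← heq, hA0]; ring
      _ = Nat.card ↥(V ⊔ A0) * Nat.card ↥(V ⊓ A0) := h1.symm
      _ ≤ _ := Nat.mul_le_mul_left _ h2
  have hVC : V ≤ C := fun v hv u hu => commute_of_elem hV hu hv
  have hle : V ⊔ A0 ≤ C := sup_le hVC inf_le_left
  have hmem : V ⊔ A0 ∈ Transfer.maxAbExp p C :=
    ⟨hle, ⟨hsupe.1, hsupe.2⟩, fun B _ hBe => (hAm B ⟨hBe.1, hBe.2⟩).trans hcard⟩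
  have hJ : V ⊔ A0 ≤ Cfsg.thompsonSubgroupOf p C := by
    rw [Transfer.thompsonSubgroupOf_eq]; exact le_sSup hmem
  have hWle : W ≤ V ⊔ A0 := fun x hx => ZJ.mem_of_commute hmem
    (Transfer.thompsonJ_le p C ((Transfer.thompsonSubgroupOf_eq p C).le (hWJ x hx)))
    (hWe.2 x hx) fun a ha => hWc x hx a (hJ ha)
  refine Subgroup.commutator_le.2 fun w hw a ha => ?_
  have hn : A0 ≤ Subgroup.normalizer (V : Set G) := Subgroup.le_normalizer_of_normal
  obtain ⟨v, hv, b, hb', rfl⟩ :=
    (Subgroup.coe_mul_of_right_le_normalizer_left V A0 hn).le (hWle hw)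
  have h1 : ⁅v * b, a⁆ = v * ⁅b, a⁆ * v⁻¹ * ⁅v, a⁆ := by
    simp only [commutatorElement_def]; group
  rw [h1, commutatorElement_eq_one_iff_mul_comm.2 (commute_of_elem hAe hb'.2 ha), mul_one,
    mul_inv_cancel, one_mul, commutatorElement_def, mul_assoc v a, mul_assoc]
  exact mul_mem hv ((inferInstance : V.Normal).conj_mem _ (inv_mem hv) a)

/-- Failure of factorization gives a section `SL(2, p)`. -/
theorem exists_sl2_of_not_le (hsep : IsPSolvable p G) (hO : pPrimeCore p G = ⊥)
    (hnle : ¬ thompsonSubgroup p G ≤ Subgroup.centralizer (omegaV p G : Set G)) :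
    (p = 2 ∨ p = 3) ∧ ∃ E : Subgroup G, Subgroup.centralizer (omegaV p G : Set G) ≤ E ∧
      E ≤ thompsonSubgroup p G ⊔ Subgroup.centralizer (omegaV p G : Set G) ∧
      thompsonSubgroup p G ⊔ Subgroup.centralizer (omegaV p G : Set G) ≤
        Subgroup.normalizer (E : Set G) ∧
      ∃ _ : ((Subgroup.centralizer (omegaV p G : Set G)).subgroupOf E).Normal,
        Nonempty ((↥E ⧸ (Subgroup.centralizer (omegaV p G : Set G)).subgroupOf E) ≃*
          Matrix.SpecialLinearGroup (Fin 2) (ZMod p)) := by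
  haveI := thompsonSubgroup_normal (G := G) (p := p)
  set V := omegaV p G with hVdef
  have hV := omegaV_elem hsep hO
  set C := Subgroup.centralizer (V : Set G) with hC
  obtain ⟨M, iM, iF, ⟨D⟩⟩ := exists_model V C le_rfl
  letI := iM
  haveI := iF
  set R := thompsonSubgroup p G ⊔ C with hR
  have hS := setting_top D (R := R) hV le_sup_right hsep (fun N hN hCN ⟨n, hn⟩ => by
    haveI := hN
    exact eq_centralizer_of_relIndex hCN hn)
  have hS3 := iSup_offenders hV D
  set K := (pPrimeCore p ↥(R.map D.hom)).map (R.map D.hom).subtype with hK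
  obtain ⟨A, hA⟩ : ∃ A, Tv p D.img (R.map D.hom) A := by
    by_contra h
    push Not at h
    have h1 : R.map D.hom = ⊥ := by
      rw [le_iSup_tv hS hS3, iSup_eq_bot]
      exact fun A => absurd A.2 (h A.1)
    rw [Subgroup.map_eq_bot_iff, D.ker_hom] at h1
    exact hnle (le_sup_left.trans h1)
  have DA := compData hS hA
  refine ⟨DA.small, (comp K A).comap D.hom, ?_, ?_, ?_, ?_⟩
  · intro c hc
    rw [Subgroup.mem_comap, D.mem_ker_iff.2 hc]; exact one_mem _
  · refine (Subgroup.comap_mono DA.le).trans ?_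
    rw [Subgroup.comap_map_eq, D.ker_hom, sup_eq_left.2 le_sup_right]
  · intro r hr
    exact Subgroup.le_normalizer_comap D.hom (normalizes_comp hS hS3 hA ⟨r, hr, rfl⟩)
  · haveI hn : (C.subgroupOf ((comp K A).comap D.hom)).Normal := inferInstance
    obtain ⟨φ⟩ := DA.sl2
    refine ⟨hn, ⟨?_⟩⟩
    let ψ := D.hom.subgroupComap (comp K A)
    have hψ : Function.Surjective ψ := by
      rintro ⟨y, hy⟩
      obtain ⟨r, -, rfl⟩ := DA.le hy
      exact ⟨⟨r, hy⟩, rfl⟩
    have hψk : C.subgroupOf ((comp K A).comap D.hom) = ψ.ker := by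
      ext x
      rw [Subgroup.mem_subgroupOf, ← D.mem_ker_iff, MonoidHom.mem_ker, Subtype.ext_iff]
      rfl
    exact ((QuotientGroup.quotientMulEquivOfEq hψk).trans
      (QuotientGroup.quotientKerEquivOfSurjective ψ hψ)).trans φ

end Cfsg.Agent.FFPair
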