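import Cfsg.Prelude.Def_PLocal
import Cfsg.Agent.Lib.Offender.Timmesfeld
import Cfsg.Agent.Lib.Coprime.Generation
import Cfsg.Agent.Lib.Transfer.Basic

/-!
# Offenders of a group with self-centralizing normal `p'`-subgroup

An elementary abelian `p`-group `A` acting faithfully with a `p'`-group `K` on `V` satisfies
`|A| |C_V(A)| ≤ |V|`; in case of equality `A` is generated by transvection groups.
-/

set_option autoImplicit false
set_option linter.style.haveILetI false

namespace Cfsg.Agent.FFPair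

open Cfsg CfsgLib
open scoped commutatorElement

variable {G : Type*} [Group G]

/-- `C_V(A)`. -/
abbrev cfix (V A : Subgroup G) : Subgroup G := V ⊓ Subgroup.centralizer (A : Set G)

/-- The elements of `N(W)` acting trivially on `V` modulo `W`. -/
def trivOn (V W : Subgroup G) : Subgroup G where
  carrier := {g | g ∈ Subgroup.normalizer (W : Set G) ∧ ∀ v ∈ V, ⁅v, g⁆ ∈ W}
  one_mem' := ⟨one_mem _, fun v _ => by simp⟩
  mul_mem' := by
    rintro g h ⟨hg, hg'⟩ ⟨hh, hh'⟩
    refine ⟨mul_mem hg hh, fun v hv => ?_⟩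
    have e : ⁅v, g * h⁆ = ⁅v, g⁆ * (g * ⁅v, h⁆ * g⁻¹) := by
      simp only [commutatorElement_def]; group
    rw [e]
    exact mul_mem (hg' v hv) ((Subgroup.mem_normalizer_iff.1 hg _).1 (hh' v hv))
  inv_mem' := by
    rintro g ⟨hg, hg'⟩
    refine ⟨inv_mem hg, fun v hv => ?_⟩
    have e : ⁅v, g⁻¹⁆ = g⁻¹ * ⁅v, g⁆⁻¹ * g⁻¹⁻¹ := by
      simp only [commutatorElement_def]; group
    rw [e]
    exact (Subgroup.mem_normalizer_iff.1 (inv_mem hg) _).1 (inv_mem (hg' v hv))

theorem mem_trivOn {V W : Subgroup G} {g : G} :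
    g ∈ trivOn V W ↔ g ∈ Subgroup.normalizer (W : Set G) ∧ ∀ v ∈ V, ⁅v, g⁆ ∈ W := Iff.rfl

theorem le_trivOn_iff {V W A : Subgroup G} :
    A ≤ trivOn V W ↔ A ≤ Subgroup.normalizer (W : Set G) ∧ ⁅V, A⁆ ≤ W := by
  constructor
  · intro h
    exact ⟨fun a ha => (h ha).1, Subgroup.commutator_le.2 fun v hv a ha => (h ha).2 v hv⟩
  · rintro ⟨h1, h2⟩ a ha
    exact ⟨h1 ha, fun v hv => h2 (Subgroup.commutator_mem_commutator hv ha)⟩

/-- If `[V, A] ≤ W ≤ V` then `A` normalises `W`. -/
theorem le_normalizer_of_commutator_le {V W A : Subgroup G} (hW : W ≤ V) (h : ⁅V, A⁆ ≤ W) :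
    A ≤ Subgroup.normalizer (W : Set G) := by
  have key : ∀ a ∈ A, ∀ w ∈ W, a * w * a⁻¹ ∈ W := by
    intro a ha w hw
    have h1 := h (Subgroup.commutator_mem_commutator (hW (inv_mem hw)) ha)
    have h2 := mul_mem hw h1
    simpa [commutatorElement_def, mul_assoc] using h2
  intro a ha
  rw [Subgroup.mem_normalizer_iff]
  refine fun w => ⟨key a ha w, fun hw => ?_⟩
  simpa [mul_assoc] using key a⁻¹ (inv_mem ha) _ hw

theorem le_trivOn_of_commutator_le {V W A : Subgroup G} (hW : W ≤ V) (h : ⁅V, A⁆ ≤ W) :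
    A ≤ trivOn V W :=
  le_trivOn_iff.2 ⟨le_normalizer_of_commutator_le hW h, h⟩

theorem commutator_le_sup {V W A B : Subgroup G} (hW : W ≤ V) (hA : ⁅V, A⁆ ≤ W) (hB : ⁅V, B⁆ ≤ W) :
    ⁅V, A ⊔ B⁆ ≤ W :=
  (le_trivOn_iff.1 (sup_le (le_trivOn_of_commutator_le hW hA)
    (le_trivOn_of_commutator_le hW hB))).2

theorem commute_of_elem {p : ℕ} {V : Subgroup G} (hV : IsElementaryAbelian p V) {u v : G}
    (hu : u ∈ V) (hv : v ∈ V) : u * v = v * u :=
  congrArg Subtype.val (hV.1.is_comm.comm (⟨u, hu⟩ : V) ⟨v, hv⟩)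

theorem isPGroup_of_elem {p : ℕ} {V : Subgroup G} (hV : IsElementaryAbelian p V) : IsPGroup p V :=
  fun v => ⟨1, Subtype.ext (by rw [pow_one, Subgroup.coe_pow]; exact hV.2 v v.2)⟩

theorem le_centralizer_of_commutator_eq_bot {V A : Subgroup G} (h : ⁅V, A⁆ = ⊥) :
    A ≤ Subgroup.centralizer (V : Set G) :=
  Subgroup.commutator_eq_bot_iff_le_centralizer.1 (Subgroup.commutator_comm V A ▸ h)

theorem commutator_eq_bot_of_le_centralizer {V A : Subgroup G}
    (h : A ≤ Subgroup.centralizer (V : Set G)) : ⁅V, A⁆ = ⊥ := by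
  rw [Subgroup.commutator_comm]
  exact Subgroup.commutator_eq_bot_iff_le_centralizer.2 h

/-- A `p'`-group of automorphisms stabilising `V ≥ W ≥ 1` of an elementary abelian `p`-group. -/
theorem pow_mem_centralizer {p : ℕ} {V W : Subgroup G} (hV : IsElementaryAbelian p V)
    (hWV : W ≤ V) {g : G} (hg : g ∈ trivOn V W) (hgW : g ∈ Subgroup.centralizer (W : Set G)) :
    g ^ p ∈ Subgroup.centralizer (V : Set G) := by
  refine Subgroup.mem_centralizer_iff.2 fun v hv => ?_
  set c := ⁅g, v⁆ with hc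
  have hcW : c ∈ W := by
    rw [hc, ← commutatorElement_inv]
    exact inv_mem (hg.2 v hv)
  have hgc : g * c * g⁻¹ = c := by
    rw [← hgW c hcW, mul_inv_cancel_right]
  have key : ∀ n : ℕ, g ^ n * v * (g ^ n)⁻¹ = c ^ n * v := by
    intro n
    induction n with
    | zero => simp
    | succ n ih =>
      calc g ^ (n + 1) * v * (g ^ (n + 1))⁻¹ = g * (g ^ n * v * (g ^ n)⁻¹) * g⁻¹ := by
            rw [pow_succ']; group
        _ = (g * c * g⁻¹) ^ n * (g * v * g⁻¹) := by rw [ih, conj_pow]; group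
        _ = c ^ n * (c * v) := by rw [hgc, hc, commutatorElement_def]; group
        _ = c ^ (n + 1) * v := by rw [pow_succ, mul_assoc]
  have h3 := key p
  rw [hV.2 c (hWV hcW), one_mul] at h3
  exact (mul_inv_eq_iff_eq_mul.1 h3).symm

/-- The data of a group with a self-centralizing normal `p'`-subgroup acting faithfully on `V`. -/
structure Setting (p : ℕ) (V K H : Subgroup G) : Prop where
  elem : IsElementaryAbelian p V
  norm : H ≤ Subgroup.normalizer (V : Set G)
  faithful : H ⊓ Subgroup.centralizer (V : Set G) = ⊥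
  le : K ≤ H
  knorm : H ≤ Subgroup.normalizer (K : Set G)
  cop : (Nat.card K).Coprime p
  cent : H ⊓ Subgroup.centralizer (K : Set G) ≤ K

variable {p : ℕ} [hp : Fact p.Prime] [Finite G] {V K H : Subgroup G}

theorem setting_of_pPrimeCore (hV : IsElementaryAbelian p V)
    (hHV : H ≤ Subgroup.normalizer (V : Set G))
    (hf : H ⊓ Subgroup.centralizer (V : Set G) = ⊥)
    (hS1 : Subgroup.centralizer (pPrimeCore p ↥H : Set ↥H) ≤ pPrimeCore p ↥H) :
    Setting p V ((pPrimeCore p ↥H).map H.subtype) H where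
  elem := hV
  norm := hHV
  faithful := hf
  le := Subgroup.map_subtype_le _
  knorm := by
    haveI := Transfer.pPrimeCore_normal p H
    refine le_of_eq_of_le ?_ (Subgroup.le_normalizer_map H.subtype)
    rw [Subgroup.normalizer_eq_top_iff.2 inferInstance, ← MonoidHom.range_eq_map,
      Subgroup.range_subtype]
  cop := by
    rw [Subgroup.card_map_of_injective H.subtype_injective]
    exact Transfer.pPrimeCore_coprime p
  cent := by
    intro g hg
    refine ⟨⟨g, hg.1⟩, hS1 (Subgroup.mem_centralizer_iff.2 fun k hk => Subtype.ext ?_), rfl⟩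
    exact hg.2 _ ⟨k, hk, rfl⟩

namespace Setting

variable (hS : Setting p V K H)

include hS

omit hp [Finite G] in
theorem offender_elem {A : Subgroup G} (hA : A ≤ H) (hb : IsBestOffenderOn p V A) :
    IsElementaryAbelian p A := by
  have h1 : ∀ x ∈ A, x ∈ Subgroup.centralizer (V : Set G) → x = 1 := fun x hx hx' =>
    (Subgroup.eq_bot_iff_forall _).1 hS.faithful x ⟨hA hx, hx'⟩
  refine ⟨⟨⟨fun a b => Subtype.ext ?_⟩⟩, fun a ha => h1 _ (pow_mem ha p) (hb.2.2 a ha)⟩
  exact commutatorElement_eq_one_iff_mul_comm.1 (h1 _ (mul_mem (mul_mem (mul_mem a.2 b.2)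
    (inv_mem a.2)) (inv_mem b.2)) (hb.2.1 (Subgroup.commutator_mem_commutator a.2 b.2)))

omit hp in
theorem inf_eq_bot {A : Subgroup G} (hA : IsPGroup p A) : A ⊓ K = ⊥ := by
  rw [eq_bot_iff]
  intro x hx
  obtain ⟨k, hk⟩ := hA ⟨x, hx.1⟩
  have hk' : x ^ p ^ k = 1 := by simpa using congrArg Subtype.val hk
  exact Subgroup.mem_bot.2 (orderOf_eq_one_iff.1 (Nat.eq_one_of_dvd_coprimes
    (hS.cop.pow_right k) (Subgroup.orderOf_dvd_natCard _ hx.2) (orderOf_dvd_of_pow_eq_one hk')))

theorem coprime_of_pgroup {A : Subgroup G} (hA : IsPGroup p A) :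
    (Nat.card A).Coprime (Nat.card K) := by
  obtain ⟨n, hn⟩ := IsPGroup.iff_card.1 hA
  exact hn ▸ (hS.cop.pow_right n).symm

omit hp in
/-- A `p`-subgroup centralizing `K` is trivial. -/
theorem eq_bot_of_centralizes {A : Subgroup G} (hA : A ≤ H) (hAp : IsPGroup p A)
    (hc : A ≤ Subgroup.centralizer (K : Set G)) : A = ⊥ :=
  le_bot_iff.1 ((le_inf le_rfl ((le_inf hA hc).trans hS.cent)).trans (hS.inf_eq_bot hAp).le)

omit [Finite G] hp hS in
theorem relIndex_mul_card' (B A : Subgroup G) (h : B ≤ A) :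
    Nat.card B * B.relIndex A = Nat.card A := by
  rw [← (B.subgroupOf A).card_mul_index,
    Nat.card_congr (Subgroup.subgroupOfEquivOfLe h).toEquiv]
  rfl

/-- A hyperplane `B` of `A` with `[C_K(B), A] ≠ 1`. -/
theorem fix_lt_of_good {A B : Subgroup G} (hA : A ≤ H) (hAe : IsElementaryAbelian p A)
    (hBA : B ≤ A) (hgood : ¬ K ⊓ Subgroup.centralizer (B : Set G) ≤ Subgroup.centralizer (A : Set G)) :
    cfix V A < cfix V B := by
  refine lt_of_le_of_ne (inf_le_inf_left V (Subgroup.centralizer_le hBA)) fun heq => hgood ?_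
  set K0 := K ⊓ Subgroup.centralizer (B : Set G) with hK0
  have hBp : IsPGroup p B := (isPGroup_of_elem hAe).to_le hBA
  have hAN : A ≤ Subgroup.normalizer (K0 : Set G) := by
    refine Coprime.le_normalizer_inf_of_le (hA.trans hS.knorm)
      (Coprime.le_normalizer_centralizer fun a ha => ?_)
    exact Subgroup.centralizer_le_normalizer _ fun b hb => commute_of_elem hAe (hBA hb) ha
  set X := ⁅K0, A⁆ with hX
  have hXK : X ≤ K0 := Coprime.commutator_le_left_of_le_normalizer hAN
  have hXV : X ≤ Subgroup.centralizer ((cfix V B : Subgroup G) : Set G) := by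
    refine Subgroup.commutator_le.2 fun k hk a ha => Subgroup.mem_centralizer_iff.2 fun v hv => ?_
    have hva : ∀ u ∈ cfix V B, a * u = u * a := fun u hu => by
      rw [← heq] at hu
      exact hu.2 a ha
    have hkv : k⁻¹ * v * k ∈ cfix V B := by
      refine ⟨?_, fun b hb => ?_⟩
      · simpa using (Subgroup.mem_normalizer_iff.1 (hS.norm (hS.le (inv_mem hk.1))) v).1 hv.1
      · have h1 : b * k = k * b := hk.2 b hb
        have h2 : b * v = v * b := hv.2 b hb
        calc b * (k⁻¹ * v * k) = k⁻¹ * (k * b) * k⁻¹ * v * k := by group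
          _ = k⁻¹ * (b * v) * k := by rw [← h1]; group
          _ = k⁻¹ * v * (b * k) := by rw [h2]; group
          _ = k⁻¹ * v * k * b := by rw [h1]; group
    have hw : a⁻¹ * v * a = v := by
      rw [mul_assoc, ← hva v hv, inv_mul_cancel_left]
    have e1 : a * (k⁻¹ * v * k) * a⁻¹ = k⁻¹ * v * k := by rw [hva _ hkv, mul_inv_cancel_right]
    have e2 : ⁅k, a⁆⁻¹ * v * ⁅k, a⁆ = v := by
      calc ⁅k, a⁆⁻¹ * v * ⁅k, a⁆ = a * k * (a⁻¹ * (k⁻¹ * v * k) * a) * k⁻¹ * a⁻¹ := by
            simp only [commutatorElement_def]; group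
        _ = a * k * (a⁻¹ * (a * (k⁻¹ * v * k) * a⁻¹) * a) * k⁻¹ * a⁻¹ := by rw [e1]
        _ = a * v * a⁻¹ := by group
        _ = v := by rw [hva v hv, mul_inv_cancel_right]
    calc v * ⁅k, a⁆ = ⁅k, a⁆ * (⁅k, a⁆⁻¹ * v * ⁅k, a⁆) := by group
      _ = ⁅k, a⁆ * v := by rw [e2]
  have hXcop : (Nat.card X).Coprime p :=
    hS.cop.coprime_dvd_left (Subgroup.card_dvd_of_le (hXK.trans inf_le_left))
  have hBX : B ≤ Subgroup.centralizer (X : Set G) :=
    (Subgroup.le_centralizer_iff.1 inf_le_right).trans (Subgroup.centralizer_le hXK)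
  have hXcV := Coprime.pxq hBp hXcop hBX (isPGroup_of_elem hS.elem)
    (hBA.trans (hA.trans hS.norm)) (hXK.trans (inf_le_left.trans (hS.le.trans hS.norm)))
    (Subgroup.le_centralizer_iff.1 hXV)
  have hX1 : X = ⊥ := le_bot_iff.1
    ((le_inf (hXK.trans (inf_le_left.trans hS.le)) hXcV).trans hS.faithful.le)
  exact Subgroup.commutator_eq_bot_iff_le_centralizer.1 hX1

theorem exists_good {A : Subgroup G} (hA : A ≤ H) (hAe : IsElementaryAbelian p A) (hA1 : A ≠ ⊥) :
    ∃ B ≤ A, B.relIndex A = p ∧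
      ¬ K ⊓ Subgroup.centralizer (B : Set G) ≤ Subgroup.centralizer (A : Set G) := by
  have hAp := isPGroup_of_elem hAe
  obtain ⟨n, hn⟩ := IsPGroup.iff_card.1 hAp
  have hnc : ¬ K ≤ Subgroup.centralizer (A : Set G) := fun h =>
    hA1 (hS.eq_bot_of_centralizes hA hAp (Subgroup.le_centralizer_iff.1 h))
  have hn0 : n ≠ 0 := by
    rintro rfl
    exact hA1 (Subgroup.eq_bot_of_card_eq _ (by rw [hn, pow_zero]))
  rcases eq_or_ne n 1 with rfl | hn1
  · refine ⟨⊥, bot_le, by rw [Subgroup.relIndex_bot_left, hn, pow_one], fun h => hnc ?_⟩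
    refine le_trans (le_inf le_rfl ?_) h
    exact fun k _ x hx => by rw [SetLike.mem_coe, Subgroup.mem_bot] at hx; simp [hx]
  by_contra hno
  push Not at hno
  refine hnc (Coprime.le_of_hyperplane_centralizer_le (p := p) hAe.1 hAe.2 ?_
    (hA.trans hS.knorm) (hS.coprime_of_pgroup hAp) fun B hBA hB => ?_)
  · rw [hn]; exact Nat.pow_le_pow_right hp.out.pos (by omega)
  · rcases eq_or_ne (B.relIndex A) p with h | h
    · exact hno B hBA h
    · have h1 : B.relIndex A ∣ p ^ n := hn ▸ Subgroup.relIndex_dvd_card B A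
      obtain ⟨j, -, hj⟩ := (Nat.dvd_prime_pow hp.out).1 h1
      rcases j with _ | _ | j
      · rw [pow_zero, Subgroup.relIndex_eq_one] at hj
        exact inf_le_right.trans (Subgroup.centralizer_le hj)
      · exact absurd (hj.trans (pow_one p)) h
      · exfalso
        have := Nat.pow_lt_pow_right hp.out.one_lt (show 1 < j + 2 by omega)
        rw [pow_one, show j + 2 = j + 1 + 1 from rfl, ← hj] at this
        omega

/-- The offender bound. -/
theorem bound : ∀ {A : Subgroup G}, A ≤ H → IsElementaryAbelian p A →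
    Nat.card A * Nat.card (cfix V A) ≤ Nat.card V := by
  intro A
  induction A using WellFoundedLT.induction with
  | ind A IH =>
  intro hA hAe
  rcases eq_or_ne A ⊥ with rfl | hA1
  · rw [Subgroup.card_bot, one_mul]
    exact Subgroup.card_le_of_le inf_le_left
  obtain ⟨B, hBA, hidx, hgood⟩ := hS.exists_good hA hAe hA1
  have hlt : B < A := lt_of_le_of_ne hBA fun h => by
    rw [h, Subgroup.relIndex_self] at hidx
    exact hp.out.one_lt.ne hidx
  have h1 := IH B hlt (hBA.trans hA) ⟨⟨⟨fun a b => Subtype.ext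
    (commute_of_elem hAe (hBA a.2) (hBA b.2))⟩⟩, fun a ha => hAe.2 a (hBA ha)⟩
  have h2 : p * Nat.card (cfix V A) ≤ Nat.card (cfix V B) := by
    have hl := hS.fix_lt_of_good hA hAe hBA hgood
    obtain ⟨m, hm⟩ := IsPGroup.iff_card.1
      ((isPGroup_of_elem hS.elem).to_le (inf_le_left : cfix V B ≤ V))
    have h3 := relIndex_mul_card' _ _ hl.le
    have h4 : (cfix V A).relIndex (cfix V B) ∣ p ^ m := hm ▸ Subgroup.relIndex_dvd_card _ _
    obtain ⟨j, -, hj⟩ := (Nat.dvd_prime_pow hp.out).1 h4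
    have hj0 : j ≠ 0 := by
      rintro rfl
      rw [pow_zero, Subgroup.relIndex_eq_one] at hj
      exact hl.not_ge hj
    rw [← h3, hj, mul_comm]
    exact Nat.mul_le_mul_left _ (Nat.le_self_pow hj0 p)
  calc Nat.card A * Nat.card (cfix V A)
      = Nat.card B * (p * Nat.card (cfix V A)) := by
        rw [← relIndex_mul_card' B A hBA, hidx, mul_assoc]
    _ ≤ Nat.card B * Nat.card (cfix V B) := Nat.mul_le_mul_left _ h2
    _ ≤ Nat.card V := h1

/-- Best offenders attain the bound. -/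
theorem offender_eq {A : Subgroup G} (hA : A ≤ H) (hb : IsBestOffenderOn p V A) :
    Nat.card A * Nat.card (cfix V A) = Nat.card V := by
  refine le_antisymm (hS.bound hA (hS.offender_elem hA hb)) ?_
  have h := hb.1 ⊥ bot_le
  have e : cfix V ⊥ = V := inf_eq_left.2 fun v _ x hx => by
    rw [SetLike.mem_coe, Subgroup.mem_bot] at hx; simp [hx]
  rwa [Subgroup.card_bot, one_mul, show V ⊓ Subgroup.centralizer ((⊥ : Subgroup G) : Set G) = V
    from e] at h

theorem offender_of_eq {A : Subgroup G} (hA : A ≤ H) (hAe : IsElementaryAbelian p A)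
    (h : Nat.card A * Nat.card (cfix V A) = Nat.card V) : IsBestOffenderOn p V A := by
  refine ⟨fun B hB => (hS.bound (hB.trans hA) ⟨⟨⟨fun a b => Subtype.ext
    (commute_of_elem hAe (hB a.2) (hB b.2))⟩⟩, fun a ha => hAe.2 a (hB ha)⟩).trans h.ge, ?_,
    fun a ha => by rw [hAe.2 a ha]; exact one_mem _⟩
  refine Subgroup.commutator_le.2 fun a ha b hb => ?_
  rw [commutatorElement_eq_one_iff_mul_comm.2 (commute_of_elem hAe ha hb)]
  exact one_mem _

/-- Good hyperplanes of a best offender are best offenders. -/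
theorem good_offender {A B : Subgroup G} (hA : A ≤ H) (hb : IsBestOffenderOn p V A) (hBA : B ≤ A)
    (hidx : B.relIndex A = p)
    (hgood : ¬ K ⊓ Subgroup.centralizer (B : Set G) ≤ Subgroup.centralizer (A : Set G)) :
    IsBestOffenderOn p V B := by
  have hAe := hS.offender_elem hA hb
  have hBe : IsElementaryAbelian p B := ⟨⟨⟨fun a b => Subtype.ext
    (commute_of_elem hAe (hBA a.2) (hBA b.2))⟩⟩, fun a ha => hAe.2 a (hBA ha)⟩
  refine hS.offender_of_eq (hBA.trans hA) hBe
    (le_antisymm (hS.bound (hBA.trans hA) hBe) ?_)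
  have hl := hS.fix_lt_of_good hA hAe hBA hgood
  have h3 := relIndex_mul_card' _ _ hl.le
  have h5 : p ≤ (cfix V A).relIndex (cfix V B) := by
    obtain ⟨m, hm⟩ := IsPGroup.iff_card.1
      ((isPGroup_of_elem hS.elem).to_le (inf_le_left : cfix V B ≤ V))
    have h4 : (cfix V A).relIndex (cfix V B) ∣ p ^ m := hm ▸ Subgroup.relIndex_dvd_card _ _
    obtain ⟨j, -, hj⟩ := (Nat.dvd_prime_pow hp.out).1 h4
    have hj0 : j ≠ 0 := by
      rintro rfl
      rw [pow_zero, Subgroup.relIndex_eq_one] at hj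
      exact hl.not_ge hj
    rw [hj]; exact Nat.le_self_pow hj0 p
  calc Nat.card V = Nat.card A * Nat.card (cfix V A) := (hS.offender_eq hA hb).symm
    _ = Nat.card B * (Nat.card (cfix V A) * p) := by
        rw [← relIndex_mul_card' B A hBA, hidx, mul_assoc, mul_comm p]
    _ ≤ Nat.card B * Nat.card (cfix V B) := by
        rw [← h3]
        exact Nat.mul_le_mul_left _ (Nat.mul_le_mul_left _ h5)

omit hp in
theorem commutator_ne_bot {A : Subgroup G} (hA : A ≤ H) (h : A ≠ ⊥) : ⁅V, A⁆ ≠ ⊥ := fun e =>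
  h (le_bot_iff.1 ((le_inf hA (le_centralizer_of_commutator_eq_bot e)).trans hS.faithful.le))

/-- A minimal best offender has order `p`. -/
theorem card_of_minimal {A : Subgroup G} (hA : A ≤ H) (hb : IsBestOffenderOn p V A)
    (hAV : ⁅V, A⁆ ≠ ⊥)
    (hmin : ∀ B : Subgroup G, B ≤ A → IsBestOffenderOn p V B → ⁅V, B⁆ ≠ ⊥ → B = A) :
    Nat.card A = p := by
  have hA1 : A ≠ ⊥ := fun h => hAV (by rw [h, Subgroup.commutator_bot_right])
  obtain ⟨B, hBA, hidx, hgood⟩ := hS.exists_good hA (hS.offender_elem hA hb) hA1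
  rcases eq_or_ne B ⊥ with rfl | hB1
  · rwa [Subgroup.relIndex_bot_left] at hidx
  · have := hmin B hBA (hS.good_offender hA hb hBA hidx hgood)
      (hS.commutator_ne_bot (hBA.trans hA) hB1)
    rw [this, Subgroup.relIndex_self] at hidx
    exact absurd hidx hp.out.one_lt.ne

/-- A best offender is generated by best offenders of order `p`. -/
theorem eq_iSup_lines : ∀ {A : Subgroup G}, A ≤ H → IsBestOffenderOn p V A →
    A = ⨆ L : {L : Subgroup G // L ≤ A ∧ IsBestOffenderOn p V L ∧ Nat.card L = p},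
      (L : Subgroup G) := by
  intro A
  induction A using WellFoundedLT.induction with
  | ind A IH =>
  intro hA hb
  refine le_antisymm ?_ (iSup_le fun L => L.2.1)
  rcases eq_or_ne A ⊥ with rfl | hA1
  · exact bot_le
  have hAe := hS.offender_elem hA hb
  obtain ⟨B, hBA, hidx, hgood⟩ := hS.exists_good hA hAe hA1
  rcases eq_or_ne B ⊥ with rfl | hB1
  · rw [Subgroup.relIndex_bot_left] at hidx
    exact le_iSup (fun L : {L : Subgroup G // L ≤ A ∧ IsBestOffenderOn p V L ∧ Nat.card L = p} =>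
      (L : Subgroup G)) ⟨A, le_rfl, hb, hidx⟩
  have hAp := isPGroup_of_elem hAe
  -- a second good hyperplane
  obtain ⟨B', hB'A, hidx', hgood', hne⟩ : ∃ B' ≤ A, B'.relIndex A = p ∧
      ¬ K ⊓ Subgroup.centralizer (B' : Set G) ≤ Subgroup.centralizer (A : Set G) ∧ ¬ B' ≤ B := by
    by_contra hno
    push Not at hno
    apply hB1
    refine hS.eq_bot_of_centralizes (hBA.trans hA) (hAp.to_le hBA)
      (Subgroup.le_centralizer_iff.1 ?_)
    obtain ⟨n, hn⟩ := IsPGroup.iff_card.1 hAp
    refine Coprime.le_of_hyperplane_centralizer_le (p := p) hAe.1 hAe.2 ?_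
      (hA.trans hS.knorm) (hS.coprime_of_pgroup hAp) fun C hCA hC => ?_
    · rw [← relIndex_mul_card' B A hBA, hidx, sq]
      refine Nat.mul_le_mul_right p ?_
      obtain ⟨m, hm⟩ := IsPGroup.iff_card.1 (hAp.to_le hBA)
      rw [hm]
      refine Nat.le_self_pow ?_ p
      rintro rfl
      exact hB1 (Subgroup.eq_bot_of_card_eq _ (by rw [hm, pow_zero]))
    · by_cases hg : K ⊓ Subgroup.centralizer (C : Set G) ≤ Subgroup.centralizer (A : Set G)
      · exact hg.trans (Subgroup.centralizer_le hBA)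
      · have hCp : C.relIndex A = p := by
          obtain ⟨j, -, hj⟩ := (Nat.dvd_prime_pow hp.out).1
            (hn ▸ Subgroup.relIndex_dvd_card C A : C.relIndex A ∣ p ^ n)
          rcases j with _ | _ | j
          · rw [pow_zero, Subgroup.relIndex_eq_one] at hj
            exact absurd (inf_le_right.trans (Subgroup.centralizer_le hj)) hg
          · simpa using hj
          · exfalso
            have := Nat.pow_lt_pow_right hp.out.one_lt (show 1 < j + 2 by omega)
            rw [pow_one, show j + 2 = j + 1 + 1 from rfl, ← hj] at this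
            omega
        have hCB := hno C hCA hCp hg
        have hCeq : C = B := Subgroup.eq_of_le_of_card_ge hCB (le_of_eq
          (Nat.eq_of_mul_eq_mul_right hp.out.pos (by
            have := relIndex_mul_card' B A hBA
            rw [hidx] at this
            have h' := relIndex_mul_card' C A hCA
            rw [hCp] at h'
            omega)))
        rw [hCeq]
        exact inf_le_right
  have hlt : ∀ {C : Subgroup G}, C ≤ A → C.relIndex A = p → C < A := fun {C} hC h =>
    lt_of_le_of_ne hC fun e => by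
      rw [e, Subgroup.relIndex_self] at h
      exact hp.out.one_lt.ne h
  have hsup : B ⊔ B' = A := by
    by_contra hne'
    have h1 : (B ⊔ B').relIndex A ∣ p := by
      rw [← hidx, ← Subgroup.relIndex_mul_relIndex B (B ⊔ B') A le_sup_left (sup_le hBA hB'A)]
      exact dvd_mul_left _ _
    rcases (Nat.dvd_prime hp.out).1 h1 with h | h
    · exact hne' (le_antisymm (sup_le hBA hB'A) (Subgroup.relIndex_eq_one.1 h))
    · have h2 := relIndex_mul_card' _ _ (sup_le hBA hB'A)
      have h3 := relIndex_mul_card' B A hBA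
      rw [h] at h2
      rw [hidx] at h3
      exact hne ((Subgroup.eq_of_le_of_card_ge (le_sup_left : B ≤ B ⊔ B') (le_of_eq
        (Nat.eq_of_mul_eq_mul_right hp.out.pos (h2.trans h3.symm)))) ▸ le_sup_right)
  have hmono : ∀ {C : Subgroup G}, C ≤ A → C.relIndex A = p → IsBestOffenderOn p V C →
      C ≤ ⨆ L : {L : Subgroup G // L ≤ A ∧ IsBestOffenderOn p V L ∧ Nat.card L = p},
        (L : Subgroup G) := fun {C} hC h hoff => by
    rw [IH C (hlt hC h) (hC.trans hA) hoff]
    exact iSup_le fun L => le_iSup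
      (fun L : {L : Subgroup G // L ≤ A ∧ IsBestOffenderOn p V L ∧ Nat.card L = p} =>
        (L : Subgroup G)) ⟨L, L.2.1.trans hC, L.2.2⟩
  conv_lhs => rw [← hsup]
  exact sup_le (hmono hBA hidx (hS.good_offender hA hb hBA hidx hgood))
    (hmono hB'A hidx' (hS.good_offender hA hb hB'A hidx' hgood'))

/-- An order `p` best offender is a group of transvections. -/
theorem relIndex_fix {A : Subgroup G} (hA : A ≤ H) (hb : IsBestOffenderOn p V A)
    (hcard : Nat.card A = p) : (cfix V A).relIndex V = p := by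
  have h1 := hS.offender_eq hA hb
  have h2 := relIndex_mul_card' (cfix V A) V inf_le_left
  rw [hcard, ← h2, mul_comm] at h1
  exact (Nat.eq_of_mul_eq_mul_left Nat.card_pos h1).symm

theorem card_commutator {A : Subgroup G} (hA : A ≤ H) (hb : IsBestOffenderOn p V A)
    (hcard : Nat.card A = p) : Nat.card ↥⁅V, A⁆ = p := by
  haveI := hS.elem.1
  have hA1 : A ≠ ⊥ := fun h => by
    rw [h, Subgroup.card_bot] at hcard
    exact hp.out.one_lt.ne hcard
  obtain ⟨⟨a, ha⟩, ha1⟩ := Subgroup.ne_bot_iff_exists_ne_one.1 hA1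
  have hgen : A = Subgroup.zpowers a := by
    refine (Subgroup.eq_of_le_of_card_ge (Subgroup.zpowers_le.2 ha) ?_).symm
    rw [hcard, Nat.card_zpowers]
    have h1 : orderOf a ∣ p := hcard ▸ Subgroup.orderOf_dvd_natCard _ ha
    rcases (Nat.dvd_prime hp.out).1 h1 with h | h
    · exact absurd (Subtype.ext (orderOf_eq_one_iff.1 h)) ha1
    · exact h.ge
  have hmem : ∀ v ∈ V, ⁅v, a⁆ ∈ V := fun v hv => by
    have h1 := (Subgroup.mem_normalizer_iff.1 (hS.norm (hA ha)) _).1 (inv_mem hv)
    have h2 := mul_mem hv h1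
    simpa [commutatorElement_def, mul_assoc] using h2
  let f : V →* V :=
    { toFun := fun v => ⟨⁅(v : G), a⁆, hmem v v.2⟩
      map_one' := Subtype.ext (by simp)
      map_mul' := fun v w => Subtype.ext <| by
        show ⁅(v : G) * w, a⁆ = ⁅(v : G), a⁆ * ⁅(w : G), a⁆
        have e : ⁅(v : G) * w, a⁆ = (v : G) * ⁅(w : G), a⁆ * (v : G)⁻¹ * ⁅(v : G), a⁆ := by
          simp only [commutatorElement_def]; group
        rw [e, commute_of_elem hS.elem v.2 (hmem w w.2), mul_inv_cancel_right,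
          commute_of_elem hS.elem (hmem w w.2) (hmem v v.2)] }
  have hker : f.ker = (cfix V A).subgroupOf V := by
    ext v
    rw [MonoidHom.mem_ker, Subgroup.mem_subgroupOf, hgen]
    constructor
    · intro h
      refine ⟨v.2, Subgroup.mem_centralizer_iff.2 fun x hx => ?_⟩
      obtain ⟨i, rfl⟩ := Subgroup.mem_zpowers_iff.1 hx
      exact ((commutatorElement_eq_one_iff_commute.1 (congrArg Subtype.val h)).symm.zpow_left i).eq
    · intro h
      exact Subtype.ext (commutatorElement_eq_one_iff_commute.2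
        (h.2 a (Subgroup.mem_zpowers a)).symm)
  set R := f.range.map V.subtype with hR
  have hRcard : Nat.card R = p := by
    rw [hR, Subgroup.card_map_of_injective V.subtype_injective, ← Subgroup.index_ker, hker]
    exact hS.relIndex_fix hA hb hcard
  have hRmem : ∀ v ∈ V, ⁅v, a⁆ ∈ R := fun v hv => ⟨f ⟨v, hv⟩, ⟨⟨v, hv⟩, rfl⟩, rfl⟩
  have hle : R ≤ ⁅V, A⁆ := by
    rintro _ ⟨_, ⟨v, rfl⟩, rfl⟩
    exact Subgroup.commutator_mem_commutator v.2 ha
  have hpow : ∀ n : ℕ, ∀ v ∈ V, ⁅v, a ^ n⁆ ∈ R := by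
    intro n
    induction n with
    | zero => intro v _; simp
    | succ n ih =>
      intro v hv
      have e : ⁅v, a ^ (n + 1)⁆ = ⁅v, a⁆ * ⁅a * v * a⁻¹, a ^ n⁆ := by
        simp only [commutatorElement_def]; group
      rw [e]
      exact mul_mem (hRmem v hv)
        (ih _ ((Subgroup.mem_normalizer_iff.1 (hS.norm (hA ha)) v).1 hv))
  rw [← hRcard]
  refine congrArg (fun S : Subgroup G => Nat.card S) (le_antisymm ?_ hle)
  rw [hgen, Subgroup.commutator_le]
  intro v hv x hx
  obtain ⟨n, rfl⟩ := (isOfFinOrder_of_finite a).mem_powers_iff_mem_zpowers.2 hx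
  exact hpow n v hv

end Setting

end Cfsg.Agent.FFPair
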