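import Cfsg.Agent.Lib.FFPair.Pair

/-!
# The `SL(2, p)`-components of a group generated by offenders
-/

set_option autoImplicit false
set_option linter.style.haveILetI false

namespace Cfsg.Agent.FFPair

open Cfsg CfsgLib
open scoped commutatorElement MatrixGroups

universe u

variable {G : Type u} [Group G]

/-- The component attached to a transvection group. -/
abbrev comp (K A : Subgroup G) : Subgroup G := ⁅K, A⁆ ⊔ A

/-- The natural module of a component. -/
abbrev modl (V K A : Subgroup G) : Subgroup G := ⁅V, comp K A⁆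

/-- A commutator of `e ∈ N(Y)` and `f ∈ C(Y)` centralizes `Y`. -/
theorem commutator_mem_centralizer {Y : Subgroup G} {e f : G}
    (he : e ∈ Subgroup.normalizer (Y : Set G)) (hf : f ∈ Subgroup.centralizer (Y : Set G)) :
    ⁅e, f⁆ ∈ Subgroup.centralizer (Y : Set G) := by
  have h : e * f * e⁻¹ ∈ Subgroup.centralizer (Y : Set G) := by
    refine Subgroup.mem_centralizer_iff.2 fun y hy => ?_
    have hy' : e⁻¹ * y * e⁻¹⁻¹ ∈ Y := (Subgroup.mem_normalizer_iff.1 (inv_mem he) y).1 hy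
    have h1 : e⁻¹ * y * e⁻¹⁻¹ * f = f * (e⁻¹ * y * e⁻¹⁻¹) := hf _ hy'
    calc y * (e * f * e⁻¹) = e * (e⁻¹ * y * e⁻¹⁻¹ * f) * e⁻¹ := by group
      _ = e * f * e⁻¹ * y := by rw [h1]; group
  rw [commutatorElement_def]
  exact mul_mem h (inv_mem hf)

theorem map_conj_eq_self {X : Subgroup G} {g : G} (h : g ∈ Subgroup.normalizer (X : Set G)) :
    X.map (MulAut.conj g).toMonoidHom = X := Subgroup.mem_normalizer_iff_map_conj_eq.1 h

variable {p : ℕ} [hp : Fact p.Prime] [Finite G] {V K H A B : Subgroup G}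

theorem exists_moved (hS : Setting p V K H) (hA : Tv p V H A) :
    ∃ x ∈ K, A.map (MulAut.conj x).toMonoidHom ≠ A := by
  by_contra h
  push Not at h
  refine hA.ne_bot (hS.eq_bot_of_centralizes hA.le hA.isPGroup
    (le_centralizer_of_commutator_eq_bot ?_))
  refine le_bot_iff.1 (le_trans (le_inf ?_ ?_) (hS.inf_eq_bot hA.isPGroup).le)
  · refine Subgroup.commutator_le.2 fun x hx a ha => ?_
    rw [commutatorElement_def]
    refine mul_mem ?_ (inv_mem ha)
    rw [← h x hx]
    exact ⟨a, ha, rfl⟩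
  · exact Coprime.commutator_le_left_of_le_normalizer (hA.le.trans hS.knorm)

omit hp [Finite G] in
theorem map_conj_le_sup {x : G} (hx : x ∈ K ⊔ A) :
    A.map (MulAut.conj x).toMonoidHom ≤ K ⊔ A := by
  rintro _ ⟨a, ha, rfl⟩
  exact mul_mem (mul_mem hx (le_sup_right (a := K) ha)) (inv_mem hx)

/-- All conjugates of `A` in `KA` lie in the group generated by two of them. -/
theorem conj_le_of_pair (hS : Setting p V K H) (hA : Tv p V H A) {x : G} (hx : x ∈ K)
    (hne : A.map (MulAut.conj x).toMonoidHom ≠ A) {g : G} (hg : g ∈ K ⊔ A) :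
    A.map (MulAut.conj g).toMonoidHom ≤ A ⊔ A.map (MulAut.conj x).toMonoidHom := by
  set B := A.map (MulAut.conj x).toMonoidHom with hB
  set L := A ⊔ B with hL
  have hBt : Tv p V H B := hA.conj hS (hS.le hx)
  have hBK : B ≤ K ⊔ A := map_conj_le_sup (le_sup_left (b := A) hx)
  have P := pairData hS hA hA hBt le_sup_right hBK (Ne.symm hne)
  set W := ⁅V, A⁆ ⊔ ⁅V, B⁆ with hW
  have hMH : K ⊔ A ≤ H := sup_le hS.le hA.le
  set C := A.map (MulAut.conj g).toMonoidHom with hC
  have hCt : Tv p V H C := hA.conj hS (hMH hg)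
  have hWV : W ≤ V := sup_le (hA.commutator_le hS) (hBt.commutator_le hS)
  obtain ⟨w, hw, hw1⟩ : ∃ w ∈ W ⊓ Subgroup.centralizer (C : Set G), w ≠ 1 := by
    by_contra h
    push Not at h
    have h0 : cfix V C ⊓ W = ⊥ := by
      rw [eq_bot_iff]
      exact fun w hw => Subgroup.mem_bot.2 (h w ⟨hw.2, hw.1.2⟩)
    have h1 := Coprime.relIndex_mul_card_inf (cfix V C) W
    rw [h0, Subgroup.card_bot, mul_one, P.cardW] at h1
    have h2 : (cfix V C).relIndex W ≤ (cfix V C).relIndex V :=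
      Subgroup.relIndex_le_of_le_right hWV Subgroup.index_ne_zero_of_finite
    rw [h1, hS.relIndex_fix hCt.le hCt.off hCt.card, sq] at h2
    nlinarith [hp.out.two_le]
  have hcard := hS.card_commutator hA.le hA.off hA.card
  obtain ⟨u, hu, hu1⟩ : ∃ u ∈ ⁅V, A⁆, u ≠ 1 := by
    by_contra h
    push Not at h
    rw [(Subgroup.eq_bot_iff_forall _).2 h, Subgroup.card_bot] at hcard
    exact hp.out.one_lt.ne hcard
  obtain ⟨l, hl, hlu⟩ := P.trans u (le_sup_left (b := ⁅V, B⁆) hu) w hw.1 hu1 hw1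
  have hlK : l ∈ K ⊔ A := (sup_le le_sup_right hBK) hl
  set D := A.map (MulAut.conj l).toMonoidHom with hD
  have hDt : Tv p V H D := hA.conj hS (hMH hlK)
  have hDL : D ≤ L := by
    rintro _ ⟨a, ha, rfl⟩
    exact mul_mem (mul_mem hl (le_sup_left (b := B) ha)) (inv_mem hl)
  have hwD : w ∈ ⁅V, D⁆ := by
    have h1 : w ∈ (⁅V, A⁆).map (MulAut.conj l).toMonoidHom := ⟨u, hu, hlu⟩
    rwa [Subgroup.map_commutator, map_conj_eq_self (hS.norm (hMH hlK))] at h1
  by_cases hCD : C = D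
  · rw [hCD]; exact hDL
  exfalso
  refine (pairData hS hA hCt hDt (map_conj_le_sup hg) (map_conj_le_sup hlK) hCD).not_centralizes ?_
  have hcD := hS.card_commutator hDt.le hDt.off hDt.card
  have e : Subgroup.zpowers w = ⁅V, D⁆ := by
    refine Subgroup.eq_of_le_of_card_ge (Subgroup.zpowers_le.2 hwD) ?_
    rw [hcD, Nat.card_zpowers]
    rcases (Nat.dvd_prime hp.out).1 (hcD ▸ Subgroup.orderOf_dvd_natCard _ hwD) with h | h
    · exact absurd (orderOf_eq_one_iff.1 h) hw1
    · exact h.ge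
  rw [← e, Subgroup.zpowers_le]
  exact hw.2

theorem comp_eq_pair (hS : Setting p V K H) (hA : Tv p V H A) {x : G} (hx : x ∈ K)
    (hne : A.map (MulAut.conj x).toMonoidHom ≠ A) :
    comp K A = A ⊔ A.map (MulAut.conj x).toMonoidHom := by
  refine le_antisymm (sup_le (Subgroup.commutator_le.2 fun k hk a ha => ?_) le_sup_left)
    (sup_le le_sup_right ?_)
  · rw [commutatorElement_def]
    exact mul_mem (conj_le_of_pair hS hA hx hne (le_sup_left (b := A) hk) ⟨a, ha, rfl⟩)
      (inv_mem (le_sup_left (b := A.map (MulAut.conj x).toMonoidHom) ha))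
  · rintro _ ⟨a, ha, rfl⟩
    show x * a * x⁻¹ ∈ _
    rw [show x * a * x⁻¹ = ⁅x, a⁆ * a by rw [commutatorElement_def]; group]
    exact mul_mem (le_sup_left (b := A) (Subgroup.commutator_mem_commutator hx ha))
      (le_sup_right (a := ⁅K, A⁆) ha)

/-- The structure of a component. -/
structure CompData (p : ℕ) (V K H A : Subgroup G) : Prop where
  le : comp K A ≤ H
  small : p = 2 ∨ p = 3
  cardW : Nat.card (modl V K A) = p ^ 2
  faithful : comp K A ⊓ Subgroup.centralizer (modl V K A : Set G) = ⊥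
  sl2 : Nonempty (↥(comp K A) ≃* SL(2, ZMod p))
  trans : ∀ w₁ ∈ modl V K A, ∀ w₂ ∈ modl V K A, w₁ ≠ 1 → w₂ ≠ 1 →
    ∃ x ∈ ⁅K, A⁆, x * w₁ * x⁻¹ = w₂
  comm_eq : ⁅V, ⁅K, A⁆⁆ = modl V K A
  fix_eq : cfix V ⁅K, A⁆ = cfix V (comp K A)
  inf_eq : modl V K A ⊓ cfix V (comp K A) = ⊥
  sup_eq : modl V K A ⊔ cfix V (comp K A) = V
  knorm : K ≤ Subgroup.normalizer (comp K A : Set G)
  card : Nat.card (comp K A) = Nat.card ↥⁅K, A⁆ * p

theorem compData (hS : Setting p V K H) (hA : Tv p V H A) : CompData p V K H A := by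
  obtain ⟨x, hx, hne⟩ := exists_moved hS hA
  set B := A.map (MulAut.conj x).toMonoidHom with hB
  have hBt : Tv p V H B := hA.conj hS (hS.le hx)
  have hE := comp_eq_pair hS hA hx hne
  have P := pairData hS hA hA hBt le_sup_right (map_conj_le_sup (le_sup_left (b := A) hx))
    (Ne.symm hne)
  have hAX : A ≤ Subgroup.normalizer ((⁅K, A⁆ : Subgroup G) : Set G) :=
    Coprime.le_normalizer_commutator (hA.le.trans hS.knorm) Subgroup.le_normalizer
  have hXK : ⁅K, A⁆ ≤ K := Coprime.commutator_le_left_of_le_normalizer (hA.le.trans hS.knorm)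
  have hleH : comp K A ≤ H := sup_le (hXK.trans hS.le) hA.le
  have hW : modl V K A = ⁅V, A⁆ ⊔ ⁅V, B⁆ := by
    show ⁅V, comp K A⁆ = _
    rw [hE, P.commutator]
  have hWV : modl V K A ≤ V :=
    Coprime.commutator_le_left_of_le_normalizer (hleH.trans hS.norm)
  have hEW : comp K A ≤ Subgroup.normalizer (modl V K A : Set G) :=
    le_normalizer_of_commutator_le hWV le_rfl
  obtain ⟨u, hu, hu1⟩ : ∃ u ∈ ⁅V, A⁆, u ≠ 1 := by
    by_contra h
    push Not at h
    have hcard := hS.card_commutator hA.le hA.off hA.card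
    rw [(Subgroup.eq_bot_iff_forall _).2 h, Subgroup.card_bot] at hcard
    exact hp.out.one_lt.ne hcard
  have hreach : ∀ w ∈ modl V K A, w ≠ 1 → ∃ k ∈ ⁅K, A⁆, k * u * k⁻¹ = w := by
    intro w hw hw1
    obtain ⟨l, hl, hlu⟩ := P.trans u (le_sup_left (b := ⁅V, B⁆) hu) w (hW ▸ hw) hu1 hw1
    rw [← hE, ← SetLike.mem_coe, Subgroup.coe_mul_of_right_le_normalizer_left _ _ hAX,
      Set.mem_mul] at hl
    obtain ⟨k, hk, a, ha, rfl⟩ := hl
    refine ⟨k, hk, ?_⟩
    have h1 : a * u = u * a := ((hA.commutator_le_fix hS) hu).2 a ha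
    have e : k * a * u * (k * a)⁻¹ = k * (a * u * a⁻¹) * k⁻¹ := by group
    rw [← hlu, e, h1, mul_inv_cancel_right]
  have htrans : ∀ w₁ ∈ modl V K A, ∀ w₂ ∈ modl V K A, w₁ ≠ 1 → w₂ ≠ 1 →
      ∃ k ∈ ⁅K, A⁆, k * w₁ * k⁻¹ = w₂ := by
    intro w₁ h1 w₂ h2 h1' h2'
    obtain ⟨k₁, hk₁, e₁⟩ := hreach w₁ h1 h1'
    obtain ⟨k₂, hk₂, e₂⟩ := hreach w₂ h2 h2'
    refine ⟨k₂ * k₁⁻¹, mul_mem hk₂ (inv_mem hk₁), ?_⟩
    rw [← e₁, ← e₂]; group
  have hX1 : ⁅K, A⁆ ≠ ⊥ := fun h =>
    hA.ne_bot (hS.eq_bot_of_centralizes hA.le hA.isPGroup (le_centralizer_of_commutator_eq_bot h))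
  have hcomm : ⁅V, ⁅K, A⁆⁆ = modl V K A := by
    have hle : ⁅V, ⁅K, A⁆⁆ ≤ modl V K A := Subgroup.commutator_mono le_rfl le_sup_left
    refine le_antisymm hle fun w hw => ?_
    rcases eq_or_ne w 1 with rfl | hw1
    · exact one_mem _
    obtain ⟨⟨w₁, hw₁⟩, hw₁1⟩ := Subgroup.ne_bot_iff_exists_ne_one.1
      (hS.commutator_ne_bot (hXK.trans hS.le) hX1)
    obtain ⟨k, hk, e⟩ := htrans w₁ (hle hw₁) w hw (fun h => hw₁1 (Subtype.ext h)) hw1
    have hn : ⁅K, A⁆ ≤ Subgroup.normalizer ((⁅V, ⁅K, A⁆⁆ : Subgroup G) : Set G) :=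
      Coprime.le_normalizer_commutator ((hXK.trans hS.le).trans hS.norm) Subgroup.le_normalizer
    exact e ▸ (Subgroup.mem_normalizer_iff.1 (hn hk) w₁).1 hw₁
  haveI := hS.elem.1
  have hXV : ⁅K, A⁆ ≤ Subgroup.normalizer (V : Set G) := (hXK.trans hS.le).trans hS.norm
  have hcopX : (Nat.card ↥⁅K, A⁆).Coprime (Nat.card V) := by
    obtain ⟨n, hn⟩ := IsPGroup.iff_card.1 (isPGroup_of_elem hS.elem)
    rw [hn]
    exact (hS.cop.coprime_dvd_left (Subgroup.card_dvd_of_le hXK)).pow_right n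
  have hinfX := Coprime.centralizer_inf_commutator_eq_bot hXV hcopX
  have hfix : cfix V ⁅K, A⁆ = cfix V (comp K A) := by
    refine le_antisymm (le_inf inf_le_left (Subgroup.le_centralizer_iff.1 (sup_le
      (Subgroup.le_centralizer_iff.1 inf_le_right) ?_)))
      (inf_le_inf_left V (Subgroup.centralizer_le (le_sup_left : ⁅K, A⁆ ≤ comp K A)))
    have hAn : A ≤ Subgroup.normalizer (cfix V ⁅K, A⁆ : Set G) :=
      Coprime.le_normalizer_inf_of_le (hA.le.trans hS.norm)
        (Coprime.le_normalizer_centralizer hAX)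
    refine le_centralizer_of_commutator_eq_bot (le_bot_iff.1 (le_trans (le_inf ?_ ?_) hinfX.le))
    · exact Coprime.commutator_le_left_of_le_normalizer hAn
    · rw [hcomm]
      exact Subgroup.commutator_mono inf_le_left le_sup_right
  refine ⟨hleH, P.small, hW ▸ P.cardW, ?_, ?_, htrans, hcomm, hfix, ?_, ?_, ?_, ?_⟩
  · rw [hW, hE]; exact P.faithful
  · rw [hE]; exact P.sl2
  · rw [← hfix, ← hcomm, inf_comm]; exact hinfX
  · rw [← hfix, ← hcomm, sup_comm]
    exact Coprime.centralizer_sup_commutator_eq hXV hcopX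
  · intro k hk
    refine Subgroup.mem_normalizer_iff_map_conj_eq.2 (Subgroup.eq_of_le_of_card_ge ?_
      (Subgroup.card_map_of_injective (MulAut.conj k).injective).ge)
    show (comp K A).map (MulAut.conj k).toMonoidHom ≤ comp K A
    rw [hE, Subgroup.map_sup, Subgroup.map_map]
    refine sup_le (conj_le_of_pair hS hA hx hne (le_sup_left (b := A) hk)) ?_
    rintro _ ⟨a, ha, rfl⟩
    refine conj_le_of_pair hS hA hx hne (le_sup_left (b := A) (mul_mem hk hx)) ⟨a, ha, ?_⟩
    simp [mul_assoc]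
  · have h := Coprime.card_sup_mul_card_inf hAX
    have hdis : ⁅K, A⁆ ⊓ A = ⊥ := eq_bot_iff.2
      ((le_inf inf_le_right (inf_le_left.trans hXK)).trans (hS.inf_eq_bot hA.isPGroup).le)
    rw [hdis, Subgroup.card_bot, mul_one, hA.card] at h
    exact h

theorem comm_le (hS : Setting p V K H) (hA : Tv p V H A) : ⁅K, A⁆ ≤ K :=
  Coprime.commutator_le_left_of_le_normalizer (hA.le.trans hS.knorm)

theorem modl_le (hS : Setting p V K H) (hA : Tv p V H A) : modl V K A ≤ V :=
  Coprime.commutator_le_left_of_le_normalizer ((compData hS hA).le.trans hS.norm)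

theorem le_normalizer_fix (hS : Setting p V K H) {Y : Subgroup G}
    (hY : Y ≤ H) (hn : Y ≤ Subgroup.normalizer (comp K A : Set G)) :
    Y ≤ Subgroup.normalizer (cfix V (comp K A) : Set G) :=
  Coprime.le_normalizer_inf_of_le (hY.trans hS.norm) (Coprime.le_normalizer_centralizer hn)

theorem eq_or_le_fix (hS : Setting p V K H) (hA : Tv p V H A) (hB : Tv p V H B) :
    modl V K A = modl V K B ∨ modl V K A ≤ cfix V (comp K B) := by
  have D := compData hS hB
  have DA := compData hS hA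
  have hWA : K ≤ Subgroup.normalizer (modl V K A : Set G) :=
    Coprime.le_normalizer_commutator (hS.le.trans hS.norm) DA.knorm
  set U := modl V K A ⊓ modl V K B with hU
  have hXB := comm_le hS hB
  have h1 : ⁅modl V K A, ⁅K, B⁆⁆ ≤ U :=
    le_inf (Coprime.commutator_le_left_of_le_normalizer (hXB.trans hWA))
      ((Subgroup.commutator_mono (modl_le hS hA) le_rfl).trans D.comm_eq.le)
  rcases eq_or_ne U ⊥ with h | h
  · right
    refine le_trans (le_inf (modl_le hS hA) ?_) D.fix_eq.le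
    exact Subgroup.le_centralizer_iff.1
      (le_centralizer_of_commutator_eq_bot (le_bot_iff.1 (h ▸ h1)))
  · left
    obtain ⟨⟨w₁, hw₁⟩, hw₁1⟩ := Subgroup.ne_bot_iff_exists_ne_one.1 h
    refine (Subgroup.eq_of_le_of_card_ge (fun w hw => ?_) (DA.cardW.trans D.cardW.symm).le).symm
    rcases eq_or_ne w 1 with rfl | hw1
    · exact one_mem _
    obtain ⟨k, hk, e⟩ := D.trans w₁ hw₁.2 w hw (fun h => hw₁1 (Subtype.ext h)) hw1
    exact e ▸ (Subgroup.mem_normalizer_iff.1 (hWA (hXB hk)) w₁).1 hw₁.1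

/-- Components with different modules commute. -/
theorem commute_of_ne (hS : Setting p V K H) (hA : Tv p V H A) (hB : Tv p V H B)
    (hne : modl V K A ≠ modl V K B) :
    comp K B ≤ Subgroup.centralizer (modl V K A : Set G) ∧ ⁅comp K A, comp K B⁆ = ⊥ := by
  have DA := compData hS hA
  have DB := compData hS hB
  have h1 := (eq_or_le_fix hS hA hB).resolve_left hne
  have h2 := (eq_or_le_fix hS hB hA).resolve_left (Ne.symm hne)
  have hBc : comp K B ≤ Subgroup.centralizer (modl V K A : Set G) :=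
    Subgroup.le_centralizer_iff.1 (h1.trans inf_le_right)
  have hAn : comp K A ≤ Subgroup.normalizer (modl V K A : Set G) :=
    le_normalizer_of_commutator_le (modl_le hS hA) le_rfl
  have hAc : comp K A ≤ Subgroup.centralizer (cfix V (comp K A) : Set G) :=
    Subgroup.le_centralizer_iff.1 inf_le_right
  have hBn : comp K B ≤ Subgroup.normalizer (cfix V (comp K A) : Set G) :=
    le_normalizer_of_commutator_le inf_le_left h2
  refine ⟨hBc, le_bot_iff.1 (Subgroup.commutator_le.2 fun e he f hf => ?_)⟩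
  rw [← hS.faithful]
  refine Subgroup.mem_inf.2 ⟨?_, ?_⟩
  · rw [commutatorElement_def]
    exact mul_mem (mul_mem (mul_mem (DA.le he) (DB.le hf)) (inv_mem (DA.le he))) (inv_mem (DB.le hf))
  · have hw := commutator_mem_centralizer (hAn he) (hBc hf)
    have hc : ⁅e, f⁆ ∈ Subgroup.centralizer (cfix V (comp K A) : Set G) := by
      rw [← commutatorElement_inv]
      exact inv_mem (commutator_mem_centralizer (hBn hf) (hAc he))
    have h3 : modl V K A ⊔ cfix V (comp K A) ≤ Subgroup.centralizer ({⁅e, f⁆} : Set G) :=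
      sup_le (fun w hw' => Subgroup.mem_centralizer_singleton_iff.2 (hw w hw'))
        (fun w hw' => Subgroup.mem_centralizer_singleton_iff.2 (hc w hw'))
    rw [DA.sup_eq] at h3
    exact fun v hv => Subgroup.mem_centralizer_singleton_iff.1 (h3 hv)

theorem fix_le_of_eq (hS : Setting p V K H) (hA : Tv p V H A) (hB : Tv p V H B)
    (heq : modl V K A = modl V K B) : cfix V (comp K B) ≤ cfix V (comp K A) := by
  have DA := compData hS hA
  have DB := compData hS hB
  have hn : ⁅K, A⁆ ≤ Subgroup.normalizer (cfix V (comp K B) : Set G) :=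
    le_normalizer_fix hS ((comm_le hS hA).trans hS.le) ((comm_le hS hA).trans DB.knorm)
  rw [← DA.fix_eq]
  refine le_inf inf_le_left (Subgroup.le_centralizer_iff.1 (le_centralizer_of_commutator_eq_bot
    (le_bot_iff.1 (le_trans (le_inf ?_ (Coprime.commutator_le_left_of_le_normalizer hn))
      DB.inf_eq.le))))
  rw [← heq, ← DA.comm_eq]
  exact Subgroup.commutator_mono inf_le_left le_rfl

/-- A transvection group acting on the same module lies in the component. -/
theorem le_comp_of_eq (hS : Setting p V K H) (hA : Tv p V H A) (hB : Tv p V H B)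
    (heq : modl V K A = modl V K B) : B ≤ comp K A := by
  have DA := compData hS hA
  have hC := le_antisymm (fix_le_of_eq hS hA hB heq) (fix_le_of_eq hS hB hA heq.symm)
  have huW : ⁅V, B⁆ ≤ modl V K A := heq ▸ Subgroup.commutator_mono le_rfl le_sup_right
  have hcB := hS.card_commutator hB.le hB.off hB.card
  have hcA := hS.card_commutator hA.le hA.off hA.card
  obtain ⟨w, hw, hw1⟩ : ∃ w ∈ ⁅V, B⁆, w ≠ 1 := by
    by_contra h
    push Not at h
    rw [(Subgroup.eq_bot_iff_forall _).2 h, Subgroup.card_bot] at hcB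
    exact hp.out.one_lt.ne hcB
  obtain ⟨u, hu, hu1⟩ : ∃ u ∈ ⁅V, A⁆, u ≠ 1 := by
    by_contra h
    push Not at h
    rw [(Subgroup.eq_bot_iff_forall _).2 h, Subgroup.card_bot] at hcA
    exact hp.out.one_lt.ne hcA
  obtain ⟨l, hl, hlu⟩ := DA.trans u (Subgroup.commutator_mono le_rfl le_sup_right hu) w (huW hw)
    hu1 hw1
  have hlH : l ∈ H := hS.le (comm_le hS hA hl)
  set D := A.map (MulAut.conj l).toMonoidHom with hD
  have hDt : Tv p V H D := hA.conj hS hlH
  have hDE : D ≤ comp K A := by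
    rintro _ ⟨a, ha, rfl⟩
    exact mul_mem (mul_mem (le_sup_left (b := A) hl) (le_sup_right (a := ⁅K, A⁆) ha))
      (inv_mem (le_sup_left (b := A) hl))
  have hDu : ⁅V, D⁆ = ⁅V, B⁆ := by
    have h1 : w ∈ (⁅V, A⁆).map (MulAut.conj l).toMonoidHom := ⟨u, hu, hlu⟩
    rw [Subgroup.map_commutator, map_conj_eq_self (hS.norm hlH)] at h1
    have hcD := hS.card_commutator hDt.le hDt.off hDt.card
    have e : ∀ Y : Subgroup G, Nat.card Y = p → w ∈ Y → Subgroup.zpowers w = Y := by
      intro Y hY hwY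
      refine Subgroup.eq_of_le_of_card_ge (Subgroup.zpowers_le.2 hwY) ?_
      rw [hY, Nat.card_zpowers]
      rcases (Nat.dvd_prime hp.out).1 (hY ▸ Subgroup.orderOf_dvd_natCard _ hwY) with h | h
      · exact absurd (orderOf_eq_one_iff.1 h) hw1
      · exact h.ge
    rw [← e _ hcD h1, e _ hcB hw]
  obtain ⟨w0, hw0, hw0u⟩ : ∃ w0 ∈ modl V K A, w0 ∉ ⁅V, B⁆ := by
    by_contra h
    push Not at h
    have := Subgroup.card_le_of_le (show modl V K A ≤ ⁅V, B⁆ from h)
    rw [DA.cardW, hcB, sq] at this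
    nlinarith [hp.out.two_le]
  have hw0V : w0 ∈ V := modl_le hS hA hw0
  have hgen : ∀ g ∈ H, g * w0 = w0 * g →
      g ∈ Subgroup.centralizer ((⁅V, B⁆ : Subgroup G) : Set G) →
      g ∈ Subgroup.centralizer (cfix V (comp K A) : Set G) → g = 1 := by
    intro g hg h0 hu' hc'
    refine (Subgroup.eq_bot_iff_forall _).1 hS.faithful g ⟨hg, ?_⟩
    have h3 : modl V K A ≤ Subgroup.centralizer ({g} : Set G) := by
      have hsup : ⁅V, B⁆ ⊔ Subgroup.zpowers w0 = modl V K A := by
        refine Subgroup.eq_of_le_of_card_ge (sup_le huW (Subgroup.zpowers_le.2 hw0)) ?_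
        obtain ⟨j, hj, hj'⟩ := (Nat.dvd_prime_pow hp.out).1 (DA.cardW ▸
          Subgroup.card_dvd_of_le (sup_le huW (Subgroup.zpowers_le.2 hw0)))
        rw [DA.cardW, hj']
        refine Nat.pow_le_pow_right hp.out.pos ?_
        by_contra hj2
        have hle : Nat.card ↥(⁅V, B⁆ ⊔ Subgroup.zpowers w0) ≤ Nat.card ↥⁅V, B⁆ := by
          rw [hj', hcB]
          exact (Nat.pow_le_pow_right hp.out.pos (by omega : j ≤ 1)).trans (pow_one p).le
        have e := Subgroup.eq_of_le_of_card_ge (le_sup_left : ⁅V, B⁆ ≤ _) hle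
        exact hw0u (e ▸ le_sup_right (a := ⁅V, B⁆) (Subgroup.mem_zpowers w0))
      rw [← hsup]
      refine sup_le (fun v hv => Subgroup.mem_centralizer_singleton_iff.2 (hu' v hv))
        (Subgroup.zpowers_le.2 (Subgroup.mem_centralizer_singleton_iff.2 h0.symm))
    have h4 : V ≤ Subgroup.centralizer ({g} : Set G) := DA.sup_eq ▸ sup_le h3
      (fun v hv => Subgroup.mem_centralizer_singleton_iff.2 (hc' v hv))
    exact fun v hv => Subgroup.mem_centralizer_singleton_iff.1 (h4 hv)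
  have hcent : ∀ (Y : Subgroup G), Tv p V H Y → ⁅V, Y⁆ = ⁅V, B⁆ →
      Y ≤ Subgroup.centralizer ((⁅V, B⁆ : Subgroup G) : Set G) := fun Y hY e =>
    Subgroup.le_centralizer_iff.1 (e ▸ (hY.commutator_le_fix hS).trans inf_le_right)
  have hDC : D ≤ Subgroup.centralizer (cfix V (comp K A) : Set G) :=
    hDE.trans (Subgroup.le_centralizer_iff.1 inf_le_right)
  have hBC : B ≤ Subgroup.centralizer (cfix V (comp K A) : Set G) := by
    rw [← hC]
    exact le_sup_right.trans (Subgroup.le_centralizer_iff.1 inf_le_right)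
  intro b hb
  obtain ⟨⟨d, hd⟩, hd1⟩ := Subgroup.ne_bot_iff_exists_ne_one.1 hDt.ne_bot
  have hcm : ∀ (Y : Subgroup G), ⁅V, Y⁆ = ⁅V, B⁆ → ∀ y ∈ Y, ⁅y, w0⁆ ∈ ⁅V, B⁆ := by
    intro Y e y hy
    rw [← commutatorElement_inv, ← e]
    exact inv_mem (Subgroup.commutator_mem_commutator hw0V hy)
  have hc0 : ⁅d, w0⁆ ≠ 1 := fun h => hd1 (Subtype.ext (hgen d (hDt.le hd)
    (commutatorElement_eq_one_iff_mul_comm.1 h) (hcent D hDt hDu hd) (hDC hd)))
  have hz : ⁅b, w0⁆ ∈ Subgroup.zpowers ⁅d, w0⁆ := by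
    have hmem := hcm D hDu d hd
    have e : Subgroup.zpowers ⁅d, w0⁆ = ⁅V, B⁆ := by
      refine Subgroup.eq_of_le_of_card_ge (Subgroup.zpowers_le.2 hmem) ?_
      rw [hcB, Nat.card_zpowers]
      rcases (Nat.dvd_prime hp.out).1 (hcB ▸ Subgroup.orderOf_dvd_natCard _ hmem) with h | h
      · exact absurd (orderOf_eq_one_iff.1 h) hc0
      · exact h.ge
    rw [e]
    exact hcm B rfl b hb
  obtain ⟨n, hn⟩ := (isOfFinOrder_of_finite ⁅d, w0⁆).mem_powers_iff_mem_zpowers.2 hz
  have hn' : ⁅d, w0⁆ ^ n = ⁅b, w0⁆ := hn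
  have hpow : ∀ m : ℕ, ⁅d ^ m, w0⁆ = ⁅d, w0⁆ ^ m := by
    intro m
    induction m with
    | zero => simp
    | succ m ih =>
      have h1 : d * ⁅d, w0⁆ ^ m = ⁅d, w0⁆ ^ m * d :=
        ((hcent D hDt hDu hd) _ (pow_mem (hcm D hDu d hd) m)).symm
      have e : ⁅d ^ (m + 1), w0⁆ = d * ⁅d ^ m, w0⁆ * d⁻¹ * ⁅d, w0⁆ := by
        rw [pow_succ']; simp only [commutatorElement_def]; group
      rw [e, ih, h1, mul_inv_cancel_right, pow_succ]
  have hbd : (d ^ n)⁻¹ * b = 1 := by
    refine hgen _ (mul_mem (inv_mem (pow_mem (hDt.le hd) n)) (hB.le hb)) ?_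
      (mul_mem (inv_mem (pow_mem (hcent D hDt hDu hd) n)) (hcent B hB rfl hb))
      (mul_mem (inv_mem (pow_mem (hDC hd) n)) (hBC hb))
    have h2 : ⁅b, w0⁆ = ⁅d ^ n, w0⁆ := by rw [hpow, hn']
    have h3 : b * w0 * b⁻¹ = d ^ n * w0 * (d ^ n)⁻¹ := by
      simpa only [commutatorElement_def, mul_left_inj] using h2
    calc (d ^ n)⁻¹ * b * w0 = (d ^ n)⁻¹ * (b * w0 * b⁻¹) * b := by group
      _ = w0 * ((d ^ n)⁻¹ * b) := by rw [h3]; group
  rw [← inv_mul_eq_one.1 hbd]
  exact pow_mem (hDE hd) n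

theorem comp_eq_of_eq (hS : Setting p V K H) (hA : Tv p V H A) (hB : Tv p V H B)
    (heq : modl V K A = modl V K B) : comp K A = comp K B := by
  have key : ∀ {A B : Subgroup G}, Tv p V H A → Tv p V H B → modl V K A = modl V K B →
      comp K B ≤ comp K A := by
    intro A B hA hB heq
    have hle := le_comp_of_eq hS hA hB heq
    refine sup_le (Subgroup.commutator_le.2 fun k hk b hb => ?_) hle
    rw [commutatorElement_def]
    exact mul_mem ((Subgroup.mem_normalizer_iff.1 ((compData hS hA).knorm hk) b).1 (hle hb))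
      (inv_mem (hle hb))
  exact le_antisymm (key hB hA heq.symm) (key hA hB heq)

/-- Any transvection group normalises every component. -/
theorem le_normalizer_comp (hS : Setting p V K H) (hA : Tv p V H A) (hB : Tv p V H B) :
    B ≤ Subgroup.normalizer (comp K A : Set G) := by
  by_cases heq : modl V K A = modl V K B
  · exact (le_comp_of_eq hS hA hB heq).trans Subgroup.le_normalizer
  · refine ((le_sup_right : B ≤ comp K B).trans ?_).trans (Subgroup.centralizer_le_normalizer _)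
    exact Subgroup.le_centralizer_iff.1
      (Subgroup.commutator_eq_bot_iff_le_centralizer.1 (commute_of_ne hS hA hB heq).2)

/-- The group generated by offenders is generated by transvection groups. -/
theorem le_iSup_tv (hS : Setting p V K H)
    (hS3 : H = ⨆ A : {A : Subgroup G // A ≤ H ∧ IsBestOffenderOn p V A}, (A : Subgroup G)) :
    H = ⨆ A : {A : Subgroup G // Tv p V H A}, (A : Subgroup G) := by
  refine le_antisymm ?_ (iSup_le fun A => A.2.le)
  conv_lhs => rw [hS3]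
  refine iSup_le fun A => ?_
  rw [hS.eq_iSup_lines A.2.1 A.2.2]
  exact iSup_le fun L => le_iSup (fun A : {A : Subgroup G // Tv p V H A} => (A : Subgroup G))
    ⟨L, L.2.1.trans A.2.1, L.2.2.1, L.2.2.2⟩

theorem normalizes_comp (hS : Setting p V K H)
    (hS3 : H = ⨆ A : {A : Subgroup G // A ≤ H ∧ IsBestOffenderOn p V A}, (A : Subgroup G))
    (hA : Tv p V H A) : H ≤ Subgroup.normalizer (comp K A : Set G) := by
  conv_lhs => rw [le_iSup_tv hS hS3]
  exact iSup_le fun B => le_normalizer_comp hS hA B.2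

end Cfsg.Agent.FFPair
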