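import Cfsg.Agent.Lib.FFPair.Structure

/-!
# Coprime operators on a group generated by offenders

An operator group `X` of exponent `q` not dividing `|H|` centralizes the components it
normalises, so `C_H(X)` covers every component and fixes a two-dimensional module.
-/

set_option autoImplicit false
set_option linter.style.haveILetI false

namespace Cfsg.Agent.FFPair

open Cfsg CfsgLib
open scoped commutatorElement MatrixGroups IsMulCommutative

universe u

variable {G : Type u} [Group G]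

/-- The product of the conjugates under `X` of an element, when they commute. -/
theorem exists_prod_fixed [Finite G] (X S R : Subgroup G) (e : G)
    (hcomm : ∀ x ∈ X, ∀ y ∈ X, Commute (x * e * x⁻¹) (y * e * y⁻¹))
    (hS : ∀ x ∈ X, x ∈ S → x * e * x⁻¹ = e) (hR : ∀ x ∈ X, x ∉ S → x * e * x⁻¹ ∈ R) :
    ∃ c : G, c ∈ Subgroup.closure (Set.range fun x : X => (x : G) * e * (x : G)⁻¹) ∧
      c ∈ Subgroup.centralizer (X : Set G) ∧
      (e ^ Nat.card ↥(X ⊓ S))⁻¹ * c ∈ R := by
  classical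
  haveI : Fintype X := Fintype.ofFinite _
  set f : X → G := fun x => (x : G) * e * (x : G)⁻¹ with hf
  set T := Subgroup.closure (Set.range f) with hT
  haveI : IsMulCommutative T := by
    refine ⟨⟨fun a b => Subtype.ext ?_⟩⟩
    have h1 : T ≤ Subgroup.centralizer (Set.range f) := (Subgroup.closure_le _).2 (by
      rintro _ ⟨x, rfl⟩ _ ⟨y, rfl⟩
      exact hcomm y y.2 x x.2)
    have h2 : T ≤ Subgroup.centralizer (T : Set G) := by
      rw [hT, Subgroup.centralizer_closure]; exact h1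
    exact h2 b.2 a a.2
  let ft : X → T := fun x => ⟨f x, Subgroup.subset_closure ⟨x, rfl⟩⟩
  set c : T := ∏ x, ft x with hc
  refine ⟨c, c.2, ?_, ?_⟩
  · have hN : X ≤ Subgroup.normalizer (T : Set G) := by
      intro y hy
      rw [Subgroup.mem_normalizer_iff_map_conj_eq, hT, MonoidHom.map_closure]
      congr 1
      ext z
      constructor
      · rintro ⟨_, ⟨x, rfl⟩, rfl⟩
        exact ⟨⟨y, hy⟩ * x, by simp [hf, mul_assoc]⟩
      · rintro ⟨x, rfl⟩
        exact ⟨_, ⟨⟨y, hy⟩⁻¹ * x, rfl⟩, by simp [hf, mul_assoc]⟩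
    refine Subgroup.mem_centralizer_iff.2 fun y hy => ?_
    have h : Coprime.conjAct hN ⟨y, hy⟩ c = c := by
      rw [hc, map_prod]
      refine Fintype.prod_equiv (Equiv.mulLeft ⟨y, hy⟩) _ _ fun x => Subtype.ext ?_
      rw [Coprime.coe_conjAct]
      simp [ft, hf, mul_assoc]
    have h2 := congrArg Subtype.val h
    rw [Coprime.coe_conjAct] at h2
    exact mul_inv_eq_iff_eq_mul.1 h2
  · set Q := R.subgroupOf T
    have hpr : c = ft 1 ^ Nat.card ↥(X ⊓ S) *
        ∏ x ∈ Finset.univ.filter (fun x : X => ¬ (x : G) ∈ S), ft x := by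
      rw [hc, ← Finset.prod_filter_mul_prod_filter_not Finset.univ (fun x : X => (x : G) ∈ S)]
      congr 1
      rw [Finset.prod_eq_pow_card (b := ft 1)]
      · congr 1
        rw [← Fintype.card_subtype, ← Nat.card_eq_fintype_card]
        exact Nat.card_congr
          ((Equiv.subtypeSubtypeEquivSubtypeInter (fun g => g ∈ X) (fun g => g ∈ S)).trans
            (Equiv.subtypeEquivRight fun g => Iff.rfl))
      · intro x hx
        refine Subtype.ext ?_
        simp [ft, hf, hS x x.2 (Finset.mem_filter.1 hx).2]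
    have hmem : (ft 1 ^ Nat.card ↥(X ⊓ S))⁻¹ * c ∈ Q := by
      rw [hpr, inv_mul_cancel_left]
      exact Subgroup.prod_mem _ fun x hx => hR x x.2 (Finset.mem_filter.1 hx).2
    have h1 : (ft 1 : G) = e := by simp [ft, hf]
    rw [Subgroup.mem_subgroupOf, Subgroup.coe_mul, Subgroup.coe_inv, Subgroup.coe_pow, h1] at hmem
    exact hmem

theorem exists_sl2_two : (∃ M : SL(2, ZMod 2), M ^ 2 = 1 ∧ M ≠ 1) ∧
    ∃ M : SL(2, ZMod 2), M ^ 3 = 1 ∧ M ≠ 1 :=
  ⟨⟨⟨!![1, 1; 0, 1], by decide⟩, Subtype.ext (by decide),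
    fun h => absurd (congrArg Subtype.val h) (by decide)⟩,
    ⟨⟨!![0, 1; 1, 1], by decide⟩, Subtype.ext (by decide),
    fun h => absurd (congrArg Subtype.val h) (by decide)⟩⟩

theorem exists_sl2_three : (∃ M : SL(2, ZMod 3), M ^ 2 = 1 ∧ M ≠ 1) ∧
    ∃ M : SL(2, ZMod 3), M ^ 3 = 1 ∧ M ≠ 1 :=
  ⟨⟨⟨!![2, 0; 0, 2], by decide⟩, Subtype.ext (by decide),
    fun h => absurd (congrArg Subtype.val h) (by decide)⟩,
    ⟨⟨!![1, 1; 0, 1], by decide⟩, Subtype.ext (by decide),
    fun h => absurd (congrArg Subtype.val h) (by decide)⟩⟩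

variable [Finite G] {p q : ℕ} [hp : Fact p.Prime] [hq : Fact q.Prime] {V K H X A : Subgroup G}

omit hq in
theorem ne_two_and_ne_three (hS : Setting p V K H) (hA : Tv p V H A)
    (hqH : ¬ q ∣ Nat.card H) : q ≠ 2 ∧ q ≠ 3 := by
  have D := compData hS hA
  obtain ⟨φ⟩ := D.sl2
  have key : ∀ (r : ℕ) [Fact r.Prime], (∃ M : SL(2, ZMod p), M ^ r = 1 ∧ M ≠ 1) →
      r ∣ Nat.card H := by
    rintro r _ ⟨M, hM, hM1⟩
    rw [← orderOf_eq_prime hM hM1, ← φ.symm.orderOf_eq M]
    exact (orderOf_dvd_natCard _).trans (Subgroup.card_dvd_of_le D.le)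
  haveI : Fact (Nat.Prime 2) := ⟨Nat.prime_two⟩
  haveI : Fact (Nat.Prime 3) := ⟨Nat.prime_three⟩
  rcases D.small with rfl | rfl
  · exact ⟨fun h => hqH (h ▸ key 2 exists_sl2_two.1), fun h => hqH (h ▸ key 3 exists_sl2_two.2)⟩
  · exact ⟨fun h => hqH (h ▸ key 2 exists_sl2_three.1), fun h => hqH (h ▸ key 3 exists_sl2_three.2)⟩

/-- A coprime operator group for the pair `(V, H)`. -/
structure Operators (q : ℕ) (V K H X : Subgroup G) : Prop where
  vnorm : X ≤ Subgroup.normalizer (V : Set G)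
  knorm : X ≤ Subgroup.normalizer (K : Set G)
  hnorm : X ≤ Subgroup.normalizer (H : Set G)
  pow_eq : ∀ x ∈ X, x ^ q = 1
  not_dvd : ¬ q ∣ Nat.card H

namespace Operators

variable (hS : Setting p V K H) (hX : Operators q V K H X)

include hX

omit [Finite G] hp hq in
theorem isPGroup : IsPGroup q X := fun x =>
  ⟨1, Subtype.ext (by rw [pow_one, Subgroup.coe_pow]; exact hX.pow_eq x x.2)⟩

omit hp in
theorem coprime : (Nat.card X).Coprime (Nat.card H) := by
  obtain ⟨n, hn⟩ := IsPGroup.iff_card.1 hX.isPGroup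
  exact hn ▸ (hq.out.coprime_iff_not_dvd.2 hX.not_dvd).pow_left n

include hS

/-- An operator normalising a component centralizes it, and its module. -/
theorem centralizes (hA : Tv p V H A) {x : G} (hx : x ∈ X)
    (hn : x ∈ Subgroup.normalizer (comp K A : Set G)) :
    x ∈ Subgroup.centralizer (comp K A : Set G) ∧
      x ∈ Subgroup.centralizer (modl V K A : Set G) := by
  have D := compData hS hA
  set W := modl V K A with hW
  set Z := Subgroup.zpowers x with hZ
  have hZX : Z ≤ X := Subgroup.zpowers_le.2 hx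
  have hWn : Z ≤ Subgroup.normalizer (W : Set G) :=
    Coprime.le_normalizer_commutator (hZX.trans hX.vnorm) (Subgroup.zpowers_le.2 hn)
  have hfix : W ≤ Subgroup.centralizer (Z : Set G) := by
    letI : MulAction Z W := MulAction.compHom W (Coprime.conjAct hWn)
    have hmod := (hX.isPGroup.to_le hZX).card_modEq_card_fixedPoints W
    have hfp : Nat.card (MulAction.fixedPoints Z W) =
        Nat.card ↥(W ⊓ Subgroup.centralizer (Z : Set G)) := by
      refine Nat.card_congr ⟨fun w => ⟨w.1, w.1.2, fun z hz => ?_⟩,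
        fun w => ⟨⟨w, w.2.1⟩, fun z => Subtype.ext ?_⟩, fun w => rfl, fun w => rfl⟩
      · have h := congrArg Subtype.val (w.2 ⟨z, hz⟩)
        exact mul_inv_eq_iff_eq_mul.1 h
      · exact mul_inv_eq_iff_eq_mul.2 (w.2.2 _ z.2)
    rw [hfp, D.cardW] at hmod
    obtain ⟨j, hj, hj'⟩ := (Nat.dvd_prime_pow hp.out).1 (D.cardW ▸ Subgroup.card_dvd_of_le
      (inf_le_left : W ⊓ Subgroup.centralizer (Z : Set G) ≤ W))
    obtain ⟨hq2, hq3⟩ := ne_two_and_ne_three hS hA hX.not_dvd
    have hq5 : 5 ≤ q := by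
      have := hq.out.two_le
      rcases (show q = 4 ∨ 5 ≤ q by omega) with h | h
      · exact absurd hq.out (by rw [h]; decide)
      · exact h
    have hj2 : j = 2 := by
      by_contra hj2
      rw [hj'] at hmod
      have hd := (Nat.modEq_iff_dvd' (Nat.pow_le_pow_right hp.out.pos hj)).1 hmod.symm
      rcases D.small with rfl | rfl <;> rcases (show j = 0 ∨ j = 1 by omega) with rfl | rfl <;>
        norm_num at hd
      · exact hq3 ((Nat.prime_dvd_prime_iff_eq hq.out Nat.prime_three).1 hd)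
      · exact hq2 ((Nat.prime_dvd_prime_iff_eq hq.out Nat.prime_two).1 hd)
      · exact hq2 ((Nat.prime_dvd_prime_iff_eq hq.out Nat.prime_two).1
          (hq.out.dvd_of_dvd_pow (show q ∣ 2 ^ 3 from hd)))
      · rcases (hq.out.dvd_mul).1 (show q ∣ 2 * 3 from hd) with h | h
        · exact hq2 ((Nat.prime_dvd_prime_iff_eq hq.out Nat.prime_two).1 h)
        · exact hq3 ((Nat.prime_dvd_prime_iff_eq hq.out Nat.prime_three).1 h)
    exact inf_eq_left.1 (Subgroup.eq_of_le_of_card_ge inf_le_left (by rw [hj', hj2, D.cardW]))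
  have hxW : x ∈ Subgroup.centralizer (W : Set G) :=
    fun w hw => (hfix hw x (Subgroup.mem_zpowers x)).symm
  refine ⟨Subgroup.mem_centralizer_iff.2 fun e he => ?_, hxW⟩
  have hEn : comp K A ≤ Subgroup.normalizer (W : Set G) :=
    le_normalizer_of_commutator_le (modl_le hS hA) le_rfl
  have h1 : ⁅e, x⁆ = e * (x * e⁻¹ * x⁻¹) := by rw [commutatorElement_def]; group
  exact commutatorElement_eq_one_iff_mul_comm.1 ((Subgroup.eq_bot_iff_forall _).1 D.faithful _
    ⟨h1 ▸ mul_mem he ((Subgroup.mem_normalizer_iff.1 hn _).1 (inv_mem he)),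
      commutator_mem_centralizer (hEn he) hxW⟩)

theorem tv_conj (hA : Tv p V H A) {x : G} (hx : x ∈ X) :
    Tv p V H (A.map (MulAut.conj x).toMonoidHom) :=
  hA.conj_of_normalizer hS (hX.hnorm hx) (hX.vnorm hx)

omit hS [Finite G] hp hq in
theorem comp_conj {x : G} (hx : x ∈ X) :
    comp K (A.map (MulAut.conj x).toMonoidHom) = (comp K A).map (MulAut.conj x).toMonoidHom := by
  rw [comp, comp, Subgroup.map_sup, Subgroup.map_commutator, map_conj_eq_self (hX.knorm hx)]

/-- An operator either centralizes a component or moves it to another one. -/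
theorem centralizes_or (hA : Tv p V H A) {x : G} (hx : x ∈ X) :
    x ∈ Subgroup.centralizer (comp K A : Set G) ∨
      comp K (A.map (MulAut.conj x).toMonoidHom) ≤ rest V K H A := by
  rcases comp_eq_or_le_rest hS hA (hX.tv_conj hS hA hx) with h | h
  · rw [hX.comp_conj hx] at h
    exact Or.inl (hX.centralizes hS hA hx (Subgroup.mem_normalizer_iff_map_conj_eq.2 h.symm)).1
  · exact Or.inr h

variable (hS3 : H = ⨆ A : {A : Subgroup G // A ≤ H ∧ IsBestOffenderOn p V A}, (A : Subgroup G))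

include hS3

/-- The fixed points cover each component modulo the other ones. -/
theorem exists_fixed (hA : Tv p V H A) {e : G} (he : e ∈ comp K A) :
    ∃ c ∈ H ⊓ Subgroup.centralizer (X : Set G), e⁻¹ * c ∈ rest V K H A := by
  have D := compData hS hA
  set S := Subgroup.centralizer (comp K A : Set G) with hSdef
  have hcop : (Nat.card (comp K A)).Coprime (Nat.card ↥(X ⊓ S)) :=
    ((hX.coprime.coprime_dvd_left (Subgroup.card_dvd_of_le inf_le_left)).coprime_dvd_right
      (Subgroup.card_dvd_of_le D.le)).symm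
  obtain ⟨⟨e', he'⟩, hpow⟩ := (powCoprime hcop).surjective ⟨e, he⟩
  have hpow' : e' ^ Nat.card ↥(X ⊓ S) = e := congrArg Subtype.val hpow
  have hmem : ∀ x ∈ X, x * e' * x⁻¹ ∈ comp K (A.map (MulAut.conj x).toMonoidHom) := by
    intro x hx
    rw [hX.comp_conj hx]
    exact ⟨e', he', rfl⟩
  have hcomm : ∀ x ∈ X, ∀ y ∈ X, Commute (x * e' * x⁻¹) (y * e' * y⁻¹) := by
    intro x hx y hy
    set B := A.map (MulAut.conj y).toMonoidHom with hB
    have hBt : Tv p V H B := hX.tv_conj hS hA hy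
    rcases comp_eq_or_le_rest hS hBt (hX.tv_conj hS hA hx) with h | h
    · have hz : y⁻¹ * x ∈ Subgroup.normalizer (comp K A : Set G) := by
        rw [hB, hX.comp_conj hy, hX.comp_conj hx] at h
        rw [Subgroup.mem_normalizer_iff_map_conj_eq]
        show (comp K A).map (MulAut.conj (y⁻¹ * x)).toMonoidHom = comp K A
        have h' := congrArg (Subgroup.map (MulAut.conj y⁻¹).toMonoidHom) h
        rw [Subgroup.map_map, Subgroup.map_map] at h'
        refine Eq.trans ?_ (h'.symm.trans ?_)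
        · exact congrArg (fun f => Subgroup.map f _) (MonoidHom.ext fun g => by simp [mul_assoc])
        · refine Eq.trans ?_ (Subgroup.map_id _)
          exact congrArg (fun f => Subgroup.map f _) (MonoidHom.ext fun g => by simp [mul_assoc])
      have hc := (hX.centralizes hS hA (mul_mem (inv_mem hy) hx) hz).1 e' he'
      have e1 : x * e' * x⁻¹ = y * e' * y⁻¹ := by
        calc x * e' * x⁻¹ = y * (y⁻¹ * x * e') * x⁻¹ := by group
          _ = y * (e' * (y⁻¹ * x)) * x⁻¹ := by rw [hc]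
          _ = y * e' * y⁻¹ := by group
      rw [e1]
    · refine (commutatorElement_eq_one_iff_commute.1 (Subgroup.mem_bot.1 ?_)).symm
      rw [← (direct_factor hS hS3 hBt).1]
      exact Subgroup.commutator_mem_commutator (hmem y hy) (h (hmem x hx))
  obtain ⟨c, hcT, hcX, hcR⟩ := exists_prod_fixed X S (rest V K H A) e' hcomm
    (fun x _ hx => by rw [← hx e' he', mul_inv_cancel_right])
    (fun x hx hxS => ((hX.centralizes_or hS hA hx).resolve_left hxS) (hmem x hx))
  refine ⟨c, ⟨(Subgroup.closure_le _).2 ?_ hcT, hcX⟩, hpow' ▸ hcR⟩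
  rintro _ ⟨x, rfl⟩
  exact (Subgroup.mem_normalizer_iff.1 (hX.hnorm x.2) e').1 (D.le he')

/-- `H` is generated by a Sylow `p`-subgroup and the fixed points. -/
theorem le_of_fixed {T : Sylow p H} {Y : Subgroup G}
    (hT : (T : Subgroup H).map H.subtype ≤ Y)
    (hfix : H ⊓ Subgroup.centralizer (X : Set G) ≤ Y) : H ≤ Y := by
  conv_lhs => rw [le_iSup_tv hS hS3]
  refine iSup_le fun B => ?_
  obtain ⟨B, hB⟩ := B
  obtain ⟨T', hT'⟩ := (hB.isPGroup.comap_subtype (K := H)).exists_le_sylow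
  obtain ⟨g, hg⟩ := MulAction.exists_smul_eq H T' T
  set A := B.map (MulAut.conj (g : G)).toMonoidHom with hAdef
  have hA : Tv p V H A := hB.conj hS g.2
  have hAY : A ≤ Y := by
    rintro _ ⟨b, hb, rfl⟩
    refine hT ⟨g * ⟨b, hB.le hb⟩ * g⁻¹, ?_, rfl⟩
    rw [← hg, Sylow.coe_subgroup_smul]
    exact ⟨⟨b, hB.le hb⟩, hT' hb, rfl⟩
  have D := compData hS hA
  have hcomm : ⁅K, A⁆ = ⁅⁅K, A⁆, A⁆ := by
    refine (Coprime.commutator_commutator_eq (hA.le.trans hS.knorm)
      (hS.coprime_of_pgroup hA.isPGroup) (Or.inl ?_)).symm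
    haveI := hA.isPGroup.isNilpotent
    infer_instance
  have hE : comp K A ≤ Y := by
    refine sup_le ?_ hAY
    rw [hcomm]
    refine Subgroup.commutator_le.2 fun e he a ha => ?_
    obtain ⟨c, hc, hr⟩ := hX.exists_fixed hS hS3 hA (le_sup_left (b := A) he)
    have h1 : e⁻¹ * c * a = a * (e⁻¹ * c) := by
      refine (commutatorElement_eq_one_iff_commute.1 (Subgroup.mem_bot.1 ?_)).symm
      rw [← (direct_factor hS hS3 hA).1]
      exact Subgroup.commutator_mem_commutator (le_sup_right (a := ⁅K, A⁆) ha) hr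
    have h2 : ⁅e, a⁆ = c * a * c⁻¹ * a⁻¹ := by
      calc ⁅e, a⁆ = e * (a * (e⁻¹ * c)) * c⁻¹ * a⁻¹ := by rw [commutatorElement_def]; group
        _ = e * (e⁻¹ * c * a) * c⁻¹ * a⁻¹ := by rw [h1]
        _ = c * a * c⁻¹ * a⁻¹ := by group
    rw [h2]
    exact mul_mem (mul_mem (mul_mem (hfix hc) (hAY ha)) (inv_mem (hfix hc))) (inv_mem (hAY ha))
  refine fun b hb => hE ?_
  have h := (Subgroup.mem_normalizer_iff.1 (normalizes_comp hS hS3 hA g.2) b).2
    (le_sup_right (a := ⁅K, A⁆) ⟨b, hb, rfl⟩)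
  exact h

/-- The fixed points act as `SL(2, p)` on a fixed subgroup of order `p²`. -/
theorem exists_fixed_module (hA : Tv p V H A) :
    ∃ W : Subgroup G, W ≤ V ⊓ Subgroup.centralizer (X : Set G) ∧ Nat.card W = p ^ 2 ∧
      H ⊓ Subgroup.centralizer (X : Set G) ≤ Subgroup.normalizer (W : Set G) ∧
      ∃ φ : ↥(H ⊓ Subgroup.centralizer (X : Set G)) →* SL(2, ZMod p), Function.Surjective φ ∧
        ∀ c, φ c = 1 ↔ (c : G) ∈ Subgroup.centralizer (W : Set G) := by
  classical
  haveI : Fintype X := Fintype.ofFinite _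
  haveI := hS.elem.1
  have D := compData hS hA
  set E := comp K A with hE
  set W0 := modl V K A with hW0
  set S := Subgroup.centralizer (E : Set G) with hSdef
  have hW0V : W0 ≤ V := modl_le hS hA
  let τ : V →* V := MonoidHom.mk' (fun v => ∏ x : X, Coprime.conjAct hX.vnorm x v)
    (fun v w => by simp [Finset.prod_mul_distrib])
  have hτfix : ∀ (v : V), ∀ y ∈ X, y * (τ v : G) = (τ v : G) * y := by
    intro v y hy
    have h : Coprime.conjAct hX.vnorm ⟨y, hy⟩ (τ v) = τ v := by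
      show Coprime.conjAct hX.vnorm ⟨y, hy⟩ (∏ x : X, Coprime.conjAct hX.vnorm x v) = _
      rw [map_prod]
      refine Fintype.prod_equiv (Equiv.mulLeft ⟨y, hy⟩) _ _ fun x => ?_
      rw [Equiv.coe_mulLeft, map_mul, MulAut.mul_apply]
    have h2 := congrArg Subtype.val h
    rw [Coprime.coe_conjAct] at h2
    exact mul_inv_eq_iff_eq_mul.1 h2
  have hτequiv : ∀ c ∈ Subgroup.centralizer (X : Set G), c ∈ Subgroup.normalizer (V : Set G) →
      ∀ (v w : V), (w : G) = c * v * c⁻¹ → (τ w : G) = c * (τ v : G) * c⁻¹ := by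
    intro c hc hcV v w hw
    set N := Subgroup.normalizer (V : Set G)
    have h : τ w = Coprime.conjAct (le_refl N) ⟨c, hcV⟩ (τ v) := by
      show (∏ x : X, Coprime.conjAct hX.vnorm x w) =
        Coprime.conjAct (le_refl N) ⟨c, hcV⟩ (∏ x : X, Coprime.conjAct hX.vnorm x v)
      rw [map_prod]
      refine Finset.prod_congr rfl fun x _ => Subtype.ext ?_
      rw [Coprime.coe_conjAct, Coprime.coe_conjAct, Coprime.coe_conjAct, hw]
      have h1 : (x : G) * c = c * x := hc x x.2
      calc (x : G) * (c * v * c⁻¹) * (x : G)⁻¹ = (x : G) * c * v * ((x : G) * c)⁻¹ := by group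
        _ = c * ((x : G) * v * (x : G)⁻¹) * c⁻¹ := by rw [h1]; group
    rw [h, Coprime.coe_conjAct]
  set n := Nat.card ↥(X ⊓ S) with hn
  have hinj : ∀ v : V, (v : G) ∈ W0 → τ v = 1 → v = 1 := by
    intro v hv h1
    set Q := (cfix V E).subgroupOf V
    have hsplit : τ v = v ^ n *
        ∏ x ∈ Finset.univ.filter (fun x : X => ¬ (x : G) ∈ S), Coprime.conjAct hX.vnorm x v := by
      show (∏ x : X, Coprime.conjAct hX.vnorm x v) = _
      rw [← Finset.prod_filter_mul_prod_filter_not Finset.univ (fun x : X => (x : G) ∈ S)]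
      congr 1
      rw [Finset.prod_eq_pow_card (b := v)]
      · congr 1
        rw [← Fintype.card_subtype, ← Nat.card_eq_fintype_card]
        exact Nat.card_congr
          ((Equiv.subtypeSubtypeEquivSubtypeInter (fun g => g ∈ X) (fun g => g ∈ S)).trans
            (Equiv.subtypeEquivRight fun g => Iff.rfl))
      · intro x hx
        refine Subtype.ext ?_
        rw [Coprime.coe_conjAct]
        have hc := (hX.centralizes hS hA x.2
          (Subgroup.centralizer_le_normalizer _ (Finset.mem_filter.1 hx).2)).2 v hv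
        exact mul_inv_eq_iff_eq_mul.2 hc.symm
    have hmem : (∏ x ∈ Finset.univ.filter (fun x : X => ¬ (x : G) ∈ S),
        Coprime.conjAct hX.vnorm x v) ∈ Q := by
      refine Subgroup.prod_mem _ fun x hx => ?_
      rw [Subgroup.mem_subgroupOf, Coprime.coe_conjAct]
      have hxS := (Finset.mem_filter.1 hx).2
      have hr := (hX.centralizes_or hS hA x.2).resolve_left hxS
      have hB := hX.tv_conj hS hA x.2
      have hm : modl V K (A.map (MulAut.conj (x : G)).toMonoidHom) ≤ cfix V E := by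
        refine (eq_or_le_fix hS hB hA).resolve_left fun heq => ?_
        have e := comp_eq_of_eq hS hB hA heq
        rw [e] at hr
        exact hA.ne_bot (le_bot_iff.1 ((le_sup_right : A ≤ comp K A).trans
          ((le_inf le_rfl (hr.trans inf_le_right)).trans D.faithful.le)))
      refine hm ?_
      show _ ∈ ⁅V, comp K _⁆
      have h := Subgroup.map_commutator V (comp K A) (MulAut.conj (x : G)).toMonoidHom
      rw [map_conj_eq_self (hX.vnorm x.2), ← hX.comp_conj x.2] at h
      rw [← h]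
      exact ⟨v, hv, rfl⟩
    rw [hsplit, mul_eq_one_iff_eq_inv] at h1
    have hQ : v ^ n ∈ Q := h1 ▸ inv_mem hmem
    rw [Subgroup.mem_subgroupOf, Subgroup.coe_pow] at hQ
    have h2 : (v : G) ^ n = 1 := (Subgroup.eq_bot_iff_forall _).1 D.inf_eq _ ⟨pow_mem hv n, hQ⟩
    have hnp : n.Coprime p :=
      (hX.coprime.coprime_dvd_left (Subgroup.card_dvd_of_le inf_le_left)).coprime_dvd_right
        (hA.card ▸ Subgroup.card_dvd_of_le hA.le)
    exact Subtype.ext (orderOf_eq_one_iff.1 (Nat.eq_one_of_dvd_coprimes hnp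
      (orderOf_dvd_of_pow_eq_one h2) (orderOf_dvd_of_pow_eq_one (hS.elem.2 v v.2))))
  set W := ((W0.subgroupOf V).map τ).map V.subtype with hW
  have hcard : Nat.card W = p ^ 2 := by
    rw [hW, Subgroup.card_map_of_injective V.subtype_injective,
      show (W0.subgroupOf V).map τ = (τ.comp (W0.subgroupOf V).subtype).range by
        rw [MonoidHom.range_comp, Subgroup.range_subtype],
      ← Nat.card_congr (MonoidHom.ofInjective (f := τ.comp (W0.subgroupOf V).subtype)
        ((injective_iff_map_eq_one _).2 fun v h => Subtype.ext (hinj v v.2 h))).toEquiv,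
      Nat.card_congr (Subgroup.subgroupOfEquivOfLe hW0V).toEquiv]
    exact D.cardW
  set C := H ⊓ Subgroup.centralizer (X : Set G) with hC
  have hCW0 : H ≤ Subgroup.normalizer (W0 : Set G) :=
    Coprime.le_normalizer_commutator hS.norm (normalizes_comp hS hS3 hA)
  have himg : ∀ c ∈ C, ∀ v : V, (v : G) ∈ W0 → ∃ w : V, (w : G) = c * v * c⁻¹ ∧ (w : G) ∈ W0 ∧
      (τ w : G) = c * (τ v : G) * c⁻¹ := fun c hc v hv =>
    ⟨⟨c * v * c⁻¹, (Subgroup.mem_normalizer_iff.1 (hS.norm hc.1) _).1 v.2⟩, rfl,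
      (Subgroup.mem_normalizer_iff.1 (hCW0 hc.1) _).1 hv, hτequiv c hc.2 (hS.norm hc.1) v _ rfl⟩
  refine ⟨W, ?_, hcard, ?_, ?_⟩
  · rintro _ ⟨_, ⟨v, -, rfl⟩, rfl⟩
    exact ⟨(τ v).2, hτfix v⟩
  · intro c hc
    have key : ∀ c ∈ C, ∀ w ∈ W, c * w * c⁻¹ ∈ W := by
      rintro c hc _ ⟨_, ⟨v, hv, rfl⟩, rfl⟩
      obtain ⟨w, -, hw, e⟩ := himg c hc v hv
      exact ⟨τ w, ⟨w, hw, rfl⟩, e⟩
    rw [Subgroup.mem_normalizer_iff]
    refine fun w => ⟨key c hc w, fun h => ?_⟩
    simpa [mul_assoc] using key c⁻¹ (inv_mem hc) _ h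
  have hker : ∀ c ∈ C, c ∈ Subgroup.centralizer (W : Set G) ↔
      c ∈ Subgroup.centralizer (W0 : Set G) := by
    intro c hc
    constructor
    · intro h w0 hw0
      obtain ⟨w, hw1, hw, e⟩ := himg c hc ⟨w0, hW0V hw0⟩ hw0
      have h1 : (τ ⟨w0, hW0V hw0⟩ : G) * c = c * τ ⟨w0, hW0V hw0⟩ :=
        h _ ⟨_, ⟨⟨w0, hW0V hw0⟩, hw0, rfl⟩, rfl⟩
      rw [← h1, mul_inv_cancel_right] at e
      have h2 := hinj (w * ⟨w0, hW0V hw0⟩⁻¹) (mul_mem hw (inv_mem hw0))
        (by rw [map_mul, map_inv, Subtype.ext e, mul_inv_cancel])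
      have h3 : (w : G) = w0 := congrArg Subtype.val (mul_inv_eq_one.1 h2)
      exact (mul_inv_eq_iff_eq_mul.1 (hw1.symm.trans h3)).symm
    · rintro h _ ⟨_, ⟨v, hv, rfl⟩, rfl⟩
      have e := hτequiv c hc.2 (hS.norm hc.1) v v (by rw [← h v hv, mul_inv_cancel_right])
      show (τ v : G) * c = c * (τ v : G)
      conv_lhs => rw [e, inv_mul_cancel_right]
  obtain ⟨φ0⟩ := D.sl2
  obtain ⟨hER, hERi, hERs, -⟩ := direct_factor hS hS3 hA
  set R := rest V K H A with hR
  haveI hRn : (R.subgroupOf H).Normal := by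
    refine Subgroup.normal_subgroupOf_of_le_normalizer ?_
    exact Coprime.le_normalizer_inf_of_le Subgroup.le_normalizer
      (Coprime.le_normalizer_centralizer hCW0)
  let π : E →* H ⧸ R.subgroupOf H :=
    (QuotientGroup.mk' (R.subgroupOf H)).comp (Subgroup.inclusion D.le)
  have hπi : Function.Injective π := by
    rw [injective_iff_map_eq_one]
    intro e he
    rw [MonoidHom.comp_apply, QuotientGroup.mk'_apply, QuotientGroup.eq_one_iff,
      Subgroup.mem_subgroupOf] at he
    exact Subtype.ext ((Subgroup.eq_bot_iff_forall _).1 hERi _ ⟨e.2, he⟩)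
  have hπs : Function.Surjective π := by
    intro x
    obtain ⟨⟨h, hh⟩, rfl⟩ := QuotientGroup.mk_surjective x
    rw [← hERs, ← SetLike.mem_coe, Subgroup.coe_mul_of_right_le_normalizer_left _ _
      (inf_le_left.trans (normalizes_comp hS hS3 hA)), Set.mem_mul] at hh
    obtain ⟨e, he, r, hr, rfl⟩ := hh
    refine ⟨⟨e, he⟩, (QuotientGroup.eq.2 ?_)⟩
    rw [Subgroup.mem_subgroupOf]
    simpa [hR, Subgroup.mem_inf] using hr
  let ψ : (H ⧸ R.subgroupOf H) ≃* SL(2, ZMod p) :=
    (MulEquiv.ofBijective π ⟨hπi, hπs⟩).symm.trans φ0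
  refine ⟨ψ.toMonoidHom.comp ((QuotientGroup.mk' _).comp (Subgroup.inclusion inf_le_left)), ?_, ?_⟩
  · intro M
    obtain ⟨x, rfl⟩ := ψ.surjective M
    obtain ⟨⟨e, he⟩, rfl⟩ := hπs x
    obtain ⟨c, hc, hr⟩ := hX.exists_fixed hS hS3 hA he
    refine ⟨⟨c, hc⟩, congrArg ψ (QuotientGroup.eq.2 ?_)⟩
    rw [Subgroup.mem_subgroupOf]
    have h := inv_mem hr
    simpa [hR, Subgroup.mem_inf] using h
  · intro c
    rw [hker c c.2, MonoidHom.comp_apply, MulEquiv.coe_toMonoidHom, map_eq_one_iff ψ ψ.injective,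
      MonoidHom.comp_apply, QuotientGroup.mk'_apply, QuotientGroup.eq_one_iff,
      Subgroup.mem_subgroupOf, hR, Subgroup.mem_inf]
    exact ⟨fun h => h.2, fun h => ⟨c.2.1, h⟩⟩

end Operators

end Cfsg.Agent.FFPair
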