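import Cfsg.Agent.Lib.FFPair.Operator
import Cfsg.Agent.Lib.FFPair.Thompson

/-!
# Coprime operators and failure of Thompson factorization

A group `L` embedded as a normal subgroup by `j`, acted upon by an operator group `X` of exponent
`q` with `q ∤ |L|`.
-/

set_option autoImplicit false
set_option linter.style.haveILetI false

namespace Cfsg.Agent.FFPair

open Cfsg CfsgLib
open scoped commutatorElement MatrixGroups

universe u

variable {G : Type u} [Group G] {L : Type u} [Group L] {p q : ℕ}

theorem thompsonSubgroup_char' : (thompsonSubgroup p L).Characteristic :=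
  Subgroup.characteristic_iff_map_eq.2 fun φ => by
    rw [ZJ.thompsonSubgroup_eq_top, Transfer.map_thompsonJ p φ.toMonoidHom φ.injective.injOn,
      Subgroup.map_top_of_surjective φ.toMonoidHom φ.surjective]

/-- Images of characteristic subgroups under an embedding with normal range are normal. -/
theorem normal_map_of_characteristic (j : L →* G) (hj : Function.Injective j) [j.range.Normal]
    (Q : Subgroup L) [Q.Characteristic] : (Q.map j).Normal := by
  refine ⟨?_⟩
  rintro _ ⟨l, hl, rfl⟩ g
  let e := MonoidHom.ofInjective hj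
  let α : L ≃* L := (e.trans (MulAut.conjNormal g)).trans e.symm
  have h := Subgroup.characteristic_iff_map_eq.1 (inferInstance : Q.Characteristic) α
  refine ⟨α l, h ▸ ⟨l, hl, rfl⟩, ?_⟩
  have h2 : (e (α l) : G) = g * j l * g⁻¹ := by
    show (e (e.symm (MulAut.conjNormal g (e l))) : G) = _
    rw [e.apply_symm_apply, MulAut.conjNormal_apply]
    rfl
  exact h2

theorem elem_map (j : L →* G) {A : Subgroup L} (hA : IsElementaryAbelian p A) :
    IsElementaryAbelian p (A.map j) := by
  haveI := hA.1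
  exact ⟨Subgroup.map_isMulCommutative A j, by
    rintro _ ⟨a, ha, rfl⟩; rw [← map_pow, hA.2 a ha, map_one]⟩

theorem map_centralizer (j : L →* G) (hj : Function.Injective j) (W : Subgroup L) :
    (Subgroup.centralizer (W : Set L)).map j =
      j.range ⊓ Subgroup.centralizer ((W.map j : Subgroup G) : Set G) := by
  ext x
  constructor
  · rintro ⟨l, hl, rfl⟩
    refine ⟨⟨l, rfl⟩, ?_⟩
    rintro _ ⟨w, hw, rfl⟩
    rw [← map_mul, ← map_mul, hl w hw]
  · rintro ⟨⟨l, rfl⟩, hl⟩
    refine ⟨l, fun w hw => hj ?_, rfl⟩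
    rw [map_mul, map_mul]
    exact hl _ ⟨w, hw, rfl⟩

theorem offender_map [Finite G] (j : L →* G) (hj : Function.Injective j) {V A : Subgroup L}
    (hA : IsBestOffenderOn p V A) : IsBestOffenderOn p (V.map j) (A.map j) := by
  have hfix : ∀ B : Subgroup L, Nat.card ↥(V.map j ⊓ Subgroup.centralizer
      ((B.map j : Subgroup G) : Set G)) = Nat.card ↥(V ⊓ Subgroup.centralizer (B : Set L)) := by
    intro B
    rw [← Subgroup.card_map_of_injective hj, Subgroup.map_inf_eq _ _ _ hj, map_centralizer j hj,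
      ← inf_assoc, inf_eq_left.2 (Subgroup.map_le_range j V)]
  refine ⟨fun B hB => ?_, ?_, ?_⟩
  · have hB' : B = (B.comap j).map j :=
      (Subgroup.map_comap_eq_self (hB.trans (Subgroup.map_le_range j A))).symm
    rw [hB', hfix, hfix, Subgroup.card_map_of_injective hj, Subgroup.card_map_of_injective hj]
    refine hA.1 _ fun b hb => ?_
    obtain ⟨a, ha, e⟩ := hB hb
    exact hj e ▸ ha
  · rw [← Subgroup.map_commutator]
    refine (Subgroup.map_mono hA.2.1).trans ?_
    rw [map_centralizer j hj]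
    exact inf_le_right
  · rintro _ ⟨a, ha, rfl⟩
    rw [← map_pow]
    have h : j (a ^ p) ∈ (Subgroup.centralizer (V : Set L)).map j := ⟨_, hA.2.2 a ha, rfl⟩
    rw [map_centralizer j hj] at h
    exact h.2

variable [Finite G] [Finite L] [hp : Fact p.Prime] [hq : Fact q.Prime]

/-- The pair of `L` on `Ω₁(Z(S))^L`, with its operators, inside a model. -/
theorem exists_operator_model (j : L →* G) (hj : Function.Injective j) [j.range.Normal]
    (hsep : IsPSolvable p L) (hO : pPrimeCore p L = ⊥) {X : Subgroup G}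
    (hX : ∀ x ∈ X, x ^ q = 1) (hq' : ¬ q ∣ Nat.card L) :
    ∃ (_ : ((omegaV p L).map j).Normal) (M : Type u) (_ : Group M) (_ : Finite M)
      (D : Model ((omegaV p L).map j)
        ((Subgroup.centralizer (omegaV p L : Set L)).map j) M) (K : Subgroup M),
      let R := (thompsonSubgroup p L ⊔ Subgroup.centralizer (omegaV p L : Set L)).map j
      Setting p D.img K (R.map D.hom) ∧
      (R.map D.hom = ⨆ A : {A : Subgroup M // A ≤ R.map D.hom ∧ IsBestOffenderOn p D.img A},
        (A : Subgroup M)) ∧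
      Operators q D.img K (R.map D.hom) (X.map D.hom) ∧
      (R ⊓ Subgroup.centralizer (X : Set G)).map D.hom =
        R.map D.hom ⊓ Subgroup.centralizer ((X.map D.hom : Subgroup M) : Set M) := by
  classical
  haveI := thompsonSubgroup_char' (L := L) (p := p)
  set CL := Subgroup.centralizer (omegaV p L : Set L) with hCL
  set RL := thompsonSubgroup p L ⊔ CL with hRL
  set V := (omegaV p L).map j with hVdef
  set C := CL.map j with hCdef
  set R := RL.map j with hRdef
  haveI hVn : V.Normal := normal_map_of_characteristic j hj _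
  haveI hCn : C.Normal := normal_map_of_characteristic j hj _
  haveI hRn : R.Normal := by
    haveI : ((thompsonSubgroup p L).map j).Normal := normal_map_of_characteristic j hj _
    rw [hRdef, hRL, Subgroup.map_sup]
    exact Subgroup.sup_normal _ _
  have hCV : C ≤ Subgroup.centralizer (V : Set G) :=
    (map_centralizer j hj _).le.trans inf_le_right
  have hV : IsElementaryAbelian p V := elem_map j (omegaV_elem hsep hO)
  obtain ⟨M, iM, iF, ⟨D⟩⟩ := exists_model V C hCV
  letI := iM
  haveI := iF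
  have hS := D.setting (L := j.range) (R := R) hV (Subgroup.map_mono le_sup_right)
    (Subgroup.map_le_range j RL)
    (PSolvable.isPSolvable_of_surjective j.rangeRestrict j.rangeRestrict_surjective hsep)
    (map_centralizer j hj _).ge (fun N hN hCN hNr ⟨n, hn⟩ => by
      haveI := hN
      have hNmap : (N.comap j).map j = N := Subgroup.map_comap_eq_self hNr
      haveI : (N.comap j).Normal := hN.comap j
      have h1 := eq_centralizer_of_relIndex (N := N.comap j)
        (Subgroup.map_le_iff_le_comap.1 hCN) (n := n) (by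
          rw [← Subgroup.relIndex_map_map_of_injective _ _ hj, hNmap]; exact hn)
      rw [← hNmap, h1])
  refine ⟨hVn, M, iM, iF, D, _, hS, ?_, ?_, ?_⟩
  · refine le_antisymm ?_ (iSup_le fun A => A.2.1)
    have hC : C.map D.hom = ⊥ := by rw [Subgroup.map_eq_bot_iff, D.ker_hom]
    conv_lhs => rw [hRdef, hRL, Subgroup.map_sup, Subgroup.map_sup, ← hCdef, hC, sup_bot_eq]
    unfold thompsonSubgroup
    rw [sSup_eq_iSup', Subgroup.map_iSup, Subgroup.map_iSup]
    refine iSup_le fun A => ?_
    refine le_iSup_of_le (⟨(A.1.map j).map D.hom, ⟨Subgroup.map_mono (Subgroup.map_mono ?_),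
      D.offender (offender_map j hj
        (Cfsg.Agent.S0606.result (omegaV p L) (omegaV_elem hsep hO) A.1 A.2))⟩⟩) le_rfl
    exact le_sup_of_le_left (le_sSup A.2)
  · have hr : X.map D.hom ≤ D.hom.range := Subgroup.map_le_range D.hom X
    have hn : X.map D.hom ≤ Subgroup.normalizer ((R.map D.hom : Subgroup M) : Set M) := by
      rintro _ ⟨x, -, rfl⟩
      refine Subgroup.le_normalizer_map D.hom ⟨x, ?_, rfl⟩
      rw [Subgroup.normalizer_eq_top_iff.2 inferInstance]
      trivial
    refine ⟨hr.trans D.norm, PSolvable.le_normalizer_map_of_characteristic hn _, hn, ?_, ?_⟩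
    · rintro _ ⟨x, hx, rfl⟩
      rw [← map_pow, hX x hx, map_one]
    · exact fun h => hq' (h.trans ((Subgroup.card_map_dvd _ _).trans ((Subgroup.card_map_dvd _ _).trans
        (Subgroup.card_subgroup_dvd_card RL))))
  · have hXp : IsPGroup q X := fun x =>
      ⟨1, Subtype.ext (by rw [pow_one, Subgroup.coe_pow]; exact hX x x.2)⟩
    haveI := hXp.isNilpotent
    refine Coprime.map_inf_centralizer Subgroup.le_normalizer_of_normal ?_ (Or.inl inferInstance)
      D.hom
    obtain ⟨n, hn⟩ := IsPGroup.iff_card.1 hXp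
    rw [hn]
    refine ((hq.out.coprime_iff_not_dvd.2 hq').pow_left n).coprime_dvd_right ?_
    exact (Subgroup.card_map_dvd _ _).trans (Subgroup.card_subgroup_dvd_card RL)

/-- `L` is generated by `N(J(S))`, `C(Ω₁ Z(S))` and the fixed points of the operators. -/
theorem sup_fixed_eq_top (j : L →* G) (hj : Function.Injective j) [j.range.Normal]
    (hsep : IsPSolvable p L) (hO : pPrimeCore p L = ⊥) {X : Subgroup G}
    (hX : ∀ x ∈ X, x ^ q = 1) (hq' : ¬ q ∣ Nat.card L) (S : Sylow p L) :
    Subgroup.normalizer (thompsonSubgroupOf p (S : Subgroup L) : Set L) ⊔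
      Subgroup.centralizer
        (omegaOne p ((S : Subgroup L) ⊓ Subgroup.centralizer ((S : Subgroup L) : Set L)) : Set L) ⊔
      (Subgroup.centralizer (X : Set G)).comap j = ⊤ := by
  haveI := thompsonSubgroup_char' (L := L) (p := p)
  set CL := Subgroup.centralizer (omegaV p L : Set L) with hCL
  set RL := thompsonSubgroup p L ⊔ CL with hRL
  set Y := Subgroup.normalizer (thompsonSubgroupOf p (S : Subgroup L) : Set L) ⊔
      Subgroup.centralizer
        (omegaOne p ((S : Subgroup L) ⊓ Subgroup.centralizer ((S : Subgroup L) : Set L)) : Set L) ⊔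
      (Subgroup.centralizer (X : Set G)).comap j with hY
  obtain ⟨hVn, M, iM, iF, D, K, hS, hS3, hops, hfix⟩ :=
    exists_operator_model j hj hsep hO hX hq'
  letI := iM
  haveI := iF
  haveI := hVn
  haveI hRn : RL.Normal := by rw [hRL]; infer_instance
  have hJ : Transfer.thompsonJ p (S : Subgroup L) ≤ thompsonSubgroup p L := by
    rw [ZJ.thompsonSubgroup_eq_top, Transfer.thompsonJ_top_eq_iSup]
    exact le_iSup (fun S : Sylow p L => Transfer.thompsonJ p (S : Subgroup L)) S
  set U := (S : Subgroup L) ⊓ RL with hU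
  have hUJ : Transfer.thompsonJ p U = Transfer.thompsonJ p (S : Subgroup L) :=
    Transfer.thompsonJ_eq_of_le (le_inf (Transfer.thompsonJ_le p _) (hJ.trans le_sup_left))
      inf_le_left
  have hUY : Subgroup.normalizer (U : Set L) ≤ Y := by
    refine le_trans ?_ (le_sup_left.trans le_sup_left)
    rw [Transfer.thompsonSubgroupOf_eq, ← hUJ]
    exact Transfer.normalizer_le_normalizer_thompsonJ p U
  have hCY : CL ≤ Y := le_trans (Subgroup.centralizer_le fun x hx => le_iSup (fun S : Sylow p L =>
    omegaOne p ((S : Subgroup L) ⊓ Subgroup.centralizer ((S : Subgroup L) : Set L))) S hx)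
    (le_sup_right.trans le_sup_left)
  let TL : Sylow p RL := (S.2.comap_of_injective RL.subtype RL.subtype_injective).toSylow
    (fun hd => S.not_dvd_index (hd.trans (Transfer.relIndex_dvd_index_of_normal _ RL)))
  suffices hRY : RL ≤ Y by
    have h := Sylow.normalizer_sup_eq_top TL
    have hTL : (TL : Subgroup RL).map RL.subtype = U := Subgroup.subgroupOf_map_subtype _ _
    rw [hTL] at h
    exact top_le_iff.1 (h ▸ sup_le hUY hRY)
  let f : RL →* ↥((RL.map j).map D.hom) :=
    (D.hom.subgroupMap (RL.map j)).comp (j.subgroupMap RL)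
  have hf : Function.Surjective f :=
    (D.hom.subgroupMap_surjective _).comp (j.subgroupMap_surjective RL)
  let T := TL.mapSurjective hf
  have hH : (RL.map j).map D.hom ≤ (Y.map j).map D.hom := by
    refine hops.le_of_fixed hS hS3 (T := T) ?_ ?_
    · rintro _ ⟨_, ⟨t, ht, rfl⟩, rfl⟩
      exact ⟨j t, ⟨t, hUY (Subgroup.le_normalizer ⟨ht, t.2⟩), rfl⟩, rfl⟩
    · rw [← hfix]
      refine Subgroup.map_mono ?_
      rintro _ ⟨⟨l, hl, rfl⟩, hc⟩
      exact ⟨l, le_sup_right (a := Subgroup.normalizer _ ⊔ Subgroup.centralizer _) hc, rfl⟩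
  intro r hr
  obtain ⟨_, ⟨y, hy, rfl⟩, e⟩ := hH ⟨j r, ⟨r, hr, rfl⟩, rfl⟩
  have h : j (y⁻¹ * r) ∈ CL.map j := by
    rw [← D.mem_ker_iff, map_mul, map_mul, map_inv, map_inv, e, inv_mul_cancel]
  obtain ⟨c, hc, e'⟩ := h
  have h2 : r = y * c := by rw [hj e', mul_inv_cancel_left]
  exact h2 ▸ mul_mem hy (hCY hc)

/-- Failure of factorization gives fixed points involving `SL(2, p)`. -/
theorem exists_fixed_sl2 (j : L →* G) (hj : Function.Injective j) [j.range.Normal]
    (hsep : IsPSolvable p L) (hO : pPrimeCore p L = ⊥) {X : Subgroup G}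
    (hX : ∀ x ∈ X, x ^ q = 1) (hq' : ¬ q ∣ Nat.card L)
    (hnle : ¬ thompsonSubgroup p L ≤ Subgroup.centralizer (omegaV p L : Set L)) :
    (p = 2 ∨ p = 3) ∧ ∃ W D : Subgroup G, W ≤ j.range ⊓ Subgroup.centralizer (X : Set G) ∧
      D ≤ j.range ⊓ Subgroup.centralizer (X : Set G) ∧ IsElementaryAbelian p W ∧
      Nat.card W = p ^ 2 ∧ D ≤ Subgroup.normalizer (W : Set G) ∧
      ∃ Φ : D →* SL(2, ZMod p), Function.Surjective Φ ∧
        ∀ d, Φ d = 1 ↔ (d : G) ∈ Subgroup.centralizer (W : Set G) := by
  set V := (omegaV p L).map j with hVdef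
  set CL := Subgroup.centralizer (omegaV p L : Set L) with hCL
  set R := (thompsonSubgroup p L ⊔ CL).map j with hR
  obtain ⟨hVn, M, iM, iF, D, K, hS, hS3, hops, hfix⟩ :=
    exists_operator_model j hj hsep hO hX hq'
  letI := iM
  haveI := iF
  haveI := hVn
  obtain ⟨A, hA⟩ : ∃ A, Tv p D.img (R.map D.hom) A := by
    by_contra h
    push Not at h
    have h1 : R.map D.hom = ⊥ := by
      rw [le_iSup_tv hS hS3, iSup_eq_bot]
      exact fun A => absurd A.2 (h A.1)
    rw [Subgroup.map_eq_bot_iff, D.ker_hom] at h1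
    exact hnle (le_sup_left.trans ((Subgroup.map_le_map_iff_of_injective hj).1 h1))
  refine ⟨(compData hS hA).small, ?_⟩
  obtain ⟨Wm, hWm, hcard, hnorm, φ, hφ, hker⟩ := hops.exists_fixed_module hS hS3 hA
  set W := (Wm.comap D.emb).map V.subtype with hW
  set D0 := R ⊓ Subgroup.centralizer (X : Set G) with hD0
  have hmem : ∀ d ∈ D0, D.hom d ∈ R.map D.hom ⊓
      Subgroup.centralizer ((X.map D.hom : Subgroup M) : Set M) :=
    fun d hd => hfix.le ⟨d, hd, rfl⟩
  have hWe : (Wm.comap D.emb).map D.emb = Wm :=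
    Subgroup.map_comap_eq_self (hWm.trans inf_le_left)
  have hWcard : Nat.card W = p ^ 2 := by
    rw [hW, Subgroup.card_map_of_injective V.subtype_injective,
      ← Subgroup.card_map_of_injective D.emb_inj, hWe, hcard]
  have hWV : W ≤ V := Subgroup.map_subtype_le _
  have hV : IsElementaryAbelian p V := elem_map j (omegaV_elem hsep hO)
  refine ⟨W, D0, ?_, inf_le_inf_right _ (Subgroup.map_le_range j _), ?_, hWcard, ?_, ?_⟩
  · rintro _ ⟨v, hv, rfl⟩
    refine ⟨Subgroup.map_le_range j _ v.2, fun x hx => ?_⟩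
    exact ((D.commute_iff x v).1 ((hWm hv).2 _ ⟨x, hx, rfl⟩).symm).symm
  · exact ⟨⟨⟨fun a b => Subtype.ext (commute_of_elem hV (hWV a.2) (hWV b.2))⟩⟩,
      fun a ha => hV.2 a (hWV ha)⟩
  · have key : ∀ d ∈ D0, ∀ w ∈ W, d * w * d⁻¹ ∈ W := by
      rintro d hd _ ⟨v, hv, rfl⟩
      let w : V := ⟨d * v * d⁻¹, hVn.conj_mem v v.2 d⟩
      refine ⟨w, ?_, rfl⟩
      rw [SetLike.mem_coe, Subgroup.mem_comap, ← D.equivariant d v w rfl]
      exact (Subgroup.mem_normalizer_iff.1 (hnorm (hmem d hd)) _).1 hv
    intro d hd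
    rw [Subgroup.mem_normalizer_iff]
    refine fun w => ⟨key d hd w, fun h => ?_⟩
    simpa [mul_assoc] using key d⁻¹ (inv_mem hd) _ h
  · let ψ : D0 →* ↥(R.map D.hom ⊓ Subgroup.centralizer ((X.map D.hom : Subgroup M) : Set M)) :=
      (D.hom.comp D0.subtype).codRestrict _ fun d => hmem d d.2
    refine ⟨φ.comp ψ, hφ.comp ?_, fun d => ?_⟩
    · rintro ⟨y, hy⟩
      obtain ⟨d, hd, rfl⟩ := hfix.ge hy
      exact ⟨⟨d, hd⟩, rfl⟩
    · rw [MonoidHom.comp_apply, hker]
      show D.hom d ∈ Subgroup.centralizer (Wm : Set M) ↔ _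
      constructor
      · rintro h _ ⟨v, hv, rfl⟩
        exact (D.commute_iff d v).1 (h _ hv)
      · intro h w hw
        rw [← hWe] at hw
        obtain ⟨v, hv, rfl⟩ := hw
        exact (D.commute_iff d v).2 (h _ ⟨v, hv, rfl⟩)

end Cfsg.Agent.FFPair
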