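import Cfsg.Agent.Lib.FFPair.Basic
import Cfsg.Agent.Lib.Quadratic.Groups

/-!
# Two transvection groups with a common normal `p'`-subgroup

Two different transvection groups `A`, `B` inside `KA` generate `SL(2, p)` on `W = [V, A][V, B]`,
acting transitively on the nonidentity elements of `W`.
-/

set_option autoImplicit false
set_option linter.style.haveILetI false

namespace Cfsg.Agent.FFPair

open Cfsg CfsgLib
open scoped commutatorElement MatrixGroups IsMulCommutative

universe u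

variable {G : Type u} [Group G]

/-- A subgroup of order `p` which is a best offender. -/
structure Tv (p : ℕ) (V H A : Subgroup G) : Prop where
  le : A ≤ H
  off : IsBestOffenderOn p V A
  card : Nat.card A = p

/-- An isomorphism of special linear groups induced by a field isomorphism. -/
noncomputable def slCongr {R S : Type*} [CommRing R] [CommRing S] (e : R ≃+* S) :
    SL(2, R) ≃* SL(2, S) where
  toFun := Matrix.SpecialLinearGroup.map e.toRingHom
  invFun := Matrix.SpecialLinearGroup.map e.symm.toRingHom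
  left_inv A := by ext i j; simp
  right_inv A := by ext i j; simp
  map_mul' := map_mul _

variable {p : ℕ} [hp : Fact p.Prime] [Finite G] {V K H : Subgroup G}

/-- A `p`-group centralizes a normalised subgroup of order `p`. -/
theorem le_centralizer_of_card {U A : Subgroup G} (hA : IsPGroup p A) (hU : Nat.card U = p)
    (hAU : A ≤ Subgroup.normalizer (U : Set G)) : A ≤ Subgroup.centralizer (U : Set G) := by
  have hUp : IsPGroup p U := IsPGroup.of_card (n := 1) (by rw [hU, pow_one])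
  haveI : Group.IsNilpotent ↥(A ⊔ U) := (IsPGroup.to_sup_of_normal_right' hA hUp hAU).isNilpotent
  have hU1 : U ≠ ⊥ := fun h => by
    rw [h, Subgroup.card_bot] at hU
    exact hp.out.one_lt.ne hU
  have hlt : ⁅U, A⁆ < U :=
    Coprime.commutator_lt_of_isNilpotent (X := A ⊔ U) le_sup_right le_sup_left hAU hU1
  refine le_centralizer_of_commutator_eq_bot (Subgroup.eq_bot_of_card_eq _ ?_)
  rcases (Nat.dvd_prime hp.out).1 (hU ▸ Subgroup.card_dvd_of_le hlt.le) with h | h
  · exact h
  · exact absurd (Subgroup.eq_of_le_of_card_ge hlt.le (by rw [hU, h])) hlt.ne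

namespace Tv

variable {A B : Subgroup G}

omit [Finite G] in
theorem isPGroup (hA : Tv p V H A) : IsPGroup p A :=
  IsPGroup.of_card (n := 1) (by rw [hA.card, pow_one])

omit [Finite G] in
theorem ne_bot (hA : Tv p V H A) : A ≠ ⊥ := fun h => by
  have := hA.card
  rw [h, Subgroup.card_bot] at this
  exact hp.out.one_lt.ne this

theorem commutator_le (hA : Tv p V H A) (hS : Setting p V K H) : ⁅V, A⁆ ≤ V :=
  Coprime.commutator_le_left_of_le_normalizer (hA.le.trans hS.norm)

theorem commutator_le_fix (hA : Tv p V H A) (hS : Setting p V K H) :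
    ⁅V, A⁆ ≤ cfix V A :=
  le_inf (hA.commutator_le hS) (Subgroup.le_centralizer_iff.1 (le_centralizer_of_card hA.isPGroup
    (hS.card_commutator hA.le hA.off hA.card)
    (Coprime.le_normalizer_commutator (hA.le.trans hS.norm) Subgroup.le_normalizer)))

theorem conj_of_normalizer (hA : Tv p V H A) (hS : Setting p V K H) {g : G}
    (hgH : g ∈ Subgroup.normalizer (H : Set G)) (hgV : g ∈ Subgroup.normalizer (V : Set G)) :
    Tv p V H (A.map (MulAut.conj g).toMonoidHom) := by
  have hle : A.map (MulAut.conj g).toMonoidHom ≤ H := by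
    rintro _ ⟨a, ha, rfl⟩
    exact (Subgroup.mem_normalizer_iff.1 hgH a).1 (hA.le ha)
  have hcard : Nat.card (A.map (MulAut.conj g).toMonoidHom) = p :=
    (Subgroup.card_map_of_injective (MulAut.conj g).injective).trans hA.card
  have hAe := hS.offender_elem hA.le hA.off
  refine ⟨hle, hS.offender_of_eq hle ⟨⟨⟨?_⟩⟩, ?_⟩ ?_, hcard⟩
  · rintro ⟨_, a, ha, rfl⟩ ⟨_, b, hb, rfl⟩
    refine Subtype.ext ?_
    show (MulAut.conj g) a * (MulAut.conj g) b = (MulAut.conj g) b * (MulAut.conj g) a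
    rw [← map_mul, ← map_mul, commute_of_elem hAe ha hb]
  · rintro _ ⟨a, ha, rfl⟩
    rw [← map_pow, hAe.2 a ha, map_one]
  · rw [hcard, ← hS.offender_eq hA.le hA.off, hA.card]
    congr 1
    refine Nat.card_congr (Equiv.subtypeEquiv (MulAut.conj g⁻¹).toEquiv fun v => ?_)
    show v ∈ cfix V (A.map (MulAut.conj g).toMonoidHom) ↔ g⁻¹ * v * g⁻¹⁻¹ ∈ cfix V A
    constructor
    · rintro ⟨hv, hvc⟩
      refine ⟨(Subgroup.mem_normalizer_iff.1 (inv_mem hgV) v).1 hv, fun a ha => ?_⟩
      have h1 : g * a * g⁻¹ * v = v * (g * a * g⁻¹) := hvc _ ⟨a, ha, rfl⟩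
      calc a * (g⁻¹ * v * g⁻¹⁻¹) = g⁻¹ * (g * a * g⁻¹ * v) * g := by group
        _ = g⁻¹ * v * g⁻¹⁻¹ * a := by rw [h1]; group
    · rintro ⟨hv, hvc⟩
      refine ⟨(Subgroup.mem_normalizer_iff.1 (inv_mem hgV) v).2 hv, ?_⟩
      rintro _ ⟨a, ha, rfl⟩
      have h1 : a * (g⁻¹ * v * g⁻¹⁻¹) = g⁻¹ * v * g⁻¹⁻¹ * a := hvc a ha
      show g * a * g⁻¹ * v = v * (g * a * g⁻¹)
      calc g * a * g⁻¹ * v = g * (a * (g⁻¹ * v * g⁻¹⁻¹)) * g⁻¹ := by group
        _ = v * (g * a * g⁻¹) := by rw [h1]; group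

theorem conj (hA : Tv p V H A) (hS : Setting p V K H) {g : G} (hg : g ∈ H) :
    Tv p V H (A.map (MulAut.conj g).toMonoidHom) :=
  hA.conj_of_normalizer hS (Subgroup.le_normalizer hg) (hS.norm hg)

end Tv

omit [Finite G] in
theorem le_normalizer_self_of_le {X Y : Subgroup G} (h : X ≤ Y) :
    X ≤ Subgroup.normalizer (Y : Set G) :=
  h.trans Subgroup.le_normalizer

/-- `p`-subgroups of `KA` have order at most `p`. -/
theorem card_le_of_le_sup (hS : Setting p V K H) {A P : Subgroup G} (hA : Tv p V H A)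
    (hP : IsPGroup p P) (hle : P ≤ K ⊔ A) : Nat.card P ≤ p := by
  have h1 : Nat.card P ∣ Nat.card ↥(K ⊔ A) := Subgroup.card_dvd_of_le hle
  have h2 := Coprime.card_sup_mul_card_inf (hA.le.trans hS.knorm)
  rw [inf_comm, hS.inf_eq_bot hA.isPGroup, Subgroup.card_bot, mul_one, hA.card] at h2
  rw [h2] at h1
  obtain ⟨n, hn⟩ := IsPGroup.iff_card.1 hP
  exact Nat.le_of_dvd hp.out.pos
    (Nat.Coprime.dvd_of_dvd_mul_left ((hn ▸ (hS.cop.pow_right n).symm :)) h1)

/-- What two different transvection groups in `KA` generate. -/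
structure PairData (p : ℕ) (V A B : Subgroup G) : Prop where
  cardW : Nat.card ↥(⁅V, A⁆ ⊔ ⁅V, B⁆) = p ^ 2
  faithful : (A ⊔ B) ⊓ Subgroup.centralizer ((⁅V, A⁆ ⊔ ⁅V, B⁆ : Subgroup G) : Set G) = ⊥
  commutator : ⁅V, A ⊔ B⁆ = ⁅V, A⁆ ⊔ ⁅V, B⁆
  not_centralizes : ¬ ⁅V, B⁆ ≤ Subgroup.centralizer (A : Set G)
  small : p = 2 ∨ p = 3
  sl2 : Nonempty (↥(A ⊔ B) ≃* SL(2, ZMod p))
  trans : ∀ w₁ ∈ ⁅V, A⁆ ⊔ ⁅V, B⁆, ∀ w₂ ∈ ⁅V, A⁆ ⊔ ⁅V, B⁆, w₁ ≠ 1 → w₂ ≠ 1 →
    ∃ l ∈ A ⊔ B, l * w₁ * l⁻¹ = w₂

theorem pairData (hS : Setting p V K H) {A0 A B : Subgroup G} (hA0 : Tv p V H A0)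
    (hA : Tv p V H A) (hB : Tv p V H B) (hAK : A ≤ K ⊔ A0) (hBK : B ≤ K ⊔ A0) (hne : A ≠ B) :
    PairData p V A B := by
  classical
  set W := ⁅V, A⁆ ⊔ ⁅V, B⁆ with hW
  set L := A ⊔ B with hL
  have hWV : W ≤ V := sup_le (hA.commutator_le hS) (hB.commutator_le hS)
  have hLH : L ≤ H := sup_le hA.le hB.le
  have hcomm : ⁅V, L⁆ = W := le_antisymm (commutator_le_sup hWV le_sup_left le_sup_right)
    (sup_le (Subgroup.commutator_mono le_rfl le_sup_left)
      (Subgroup.commutator_mono le_rfl le_sup_right))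
  have hLW : L ≤ Subgroup.normalizer (W : Set G) := le_normalizer_of_commutator_le hWV hcomm.le
  set T := L ⊓ Subgroup.centralizer (W : Set G) with hT
  have hT1 : T = ⊥ := by
    have hTp : IsPGroup p T := fun t => ⟨1, Subtype.ext (by
      rw [pow_one, Subgroup.coe_pow]
      exact (Subgroup.eq_bot_iff_forall _).1 hS.faithful _ ⟨hLH (pow_mem t.2.1 p),
        pow_mem_centralizer hS.elem hWV (le_trivOn_of_commutator_le hWV hcomm.le t.2.1) t.2.2⟩)⟩
    have hLT : L ≤ Subgroup.normalizer (T : Set G) :=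
      Coprime.le_normalizer_inf_of_le Subgroup.le_normalizer
        (Coprime.le_normalizer_centralizer hLW)
    by_contra hT1
    obtain ⟨n, hn⟩ := IsPGroup.iff_card.1 hTp
    have hn0 : n ≠ 0 := fun h => hT1 (Subgroup.eq_bot_of_card_eq _ (by rw [hn, h, pow_zero]))
    have key : ∀ C : Subgroup G, Tv p V H C → C ≤ L → C = T := by
      intro C hC hCL
      have hsup := IsPGroup.to_sup_of_normal_right' hC.isPGroup hTp (hCL.trans hLT)
      have h1 := card_le_of_le_sup hS hA0 hsup
        ((sup_le hCL inf_le_left).trans (sup_le hAK hBK))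
      have hp' : p ≤ Nat.card T := hn ▸ Nat.le_self_pow hn0 p
      have e1 := Subgroup.eq_of_le_of_card_ge (le_sup_left : C ≤ C ⊔ T) (by rw [hC.card]; exact h1)
      exact (Subgroup.eq_of_le_of_card_ge (le_sup_right.trans e1.ge : T ≤ C)
        (by rw [hC.card]; exact hp')).symm
    exact hne ((key A hA le_sup_left).trans (key B hB le_sup_right).symm)
  have hcA := hS.card_commutator hA.le hA.off hA.card
  have hcB := hS.card_commutator hB.le hB.off hB.card
  have hnot : ∀ C : Subgroup G, Tv p V H C → C ≤ L →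
      ¬ W ≤ Subgroup.centralizer (C : Set G) := fun C hC hCL h =>
    hC.ne_bot (le_bot_iff.1 ((le_inf hCL (Subgroup.le_centralizer_iff.1 h)).trans hT1.le))
  have hBA : ¬ ⁅V, B⁆ ≤ Subgroup.centralizer (A : Set G) := fun h =>
    hnot A hA le_sup_left (sup_le ((hA.commutator_le_fix hS).trans inf_le_right) h)
  have hAB : ¬ ⁅V, A⁆ ≤ Subgroup.centralizer (B : Set G) := fun h =>
    hnot B hB le_sup_right (sup_le h ((hB.commutator_le_fix hS).trans inf_le_right))
  have huAB : ⁅V, A⁆ ⊓ ⁅V, B⁆ = ⊥ := by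
    rcases (Nat.dvd_prime hp.out).1 (hcB ▸ Subgroup.card_dvd_of_le
      (inf_le_right : ⁅V, A⁆ ⊓ ⁅V, B⁆ ≤ _)) with h | h
    · exact Subgroup.eq_bot_of_card_eq _ h
    · exfalso
      have e := Subgroup.eq_of_le_of_card_ge (inf_le_right : ⁅V, A⁆ ⊓ ⁅V, B⁆ ≤ _) (by rw [h, hcB])
      exact hBA ((e.ge.trans inf_le_left).trans ((hA.commutator_le_fix hS).trans inf_le_right))
  have hWcard : Nat.card W = p ^ 2 := by
    have h := Coprime.card_sup_mul_card_inf (K := ⁅V, A⁆) (S := ⁅V, B⁆) (fun x hx =>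
      Subgroup.centralizer_le_normalizer _ fun y hy =>
        commute_of_elem hS.elem (hA.commutator_le hS hy) (hB.commutator_le hS hx))
    rw [huAB, Subgroup.card_bot, mul_one, hcA, hcB] at h
    rw [hW, h, sq]
  have hWe : IsElementaryAbelian p W :=
    ⟨⟨⟨fun u v => Subtype.ext (commute_of_elem hS.elem (hWV u.2) (hWV v.2))⟩⟩,
      fun u hu => hS.elem.2 u (hWV hu)⟩
  haveI := hWe.1
  obtain ⟨⟨a, ha⟩, ha1⟩ := Subgroup.ne_bot_iff_exists_ne_one.1 hA.ne_bot
  obtain ⟨⟨b, hb⟩, hb1⟩ := Subgroup.ne_bot_iff_exists_ne_one.1 hB.ne_bot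
  have hz : ∀ (C : Subgroup G), Tv p V H C → ∀ c ∈ C, c ≠ 1 → Subgroup.zpowers c = C := by
    intro C hC c hc hc1
    refine Subgroup.eq_of_le_of_card_ge (Subgroup.zpowers_le.2 hc) ?_
    rw [hC.card, Nat.card_zpowers]
    rcases (Nat.dvd_prime hp.out).1 (hC.card ▸ Subgroup.orderOf_dvd_natCard _ hc) with h | h
    · exact absurd (orderOf_eq_one_iff.1 h) hc1
    · exact h.ge
  have hza : Subgroup.zpowers a = A := hz A hA a ha fun h => ha1 (Subtype.ext h)
  have hzb : Subgroup.zpowers b = B := hz B hB b hb fun h => hb1 (Subtype.ext h)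
  have haL : a ∈ L := le_sup_left (a := A) ha
  have hbL : b ∈ L := le_sup_right (b := B) hb
  have hgenL : L = Subgroup.closure ({a, b} : Set G) := by
    rw [show ({a, b} : Set G) = {a} ∪ {b} by rfl, Subgroup.closure_union,
      ← Subgroup.zpowers_eq_closure, ← Subgroup.zpowers_eq_closure, hza, hzb]
  set ψ := Quadratic.act W L hLW with hψdef
  have hψinj : Function.Injective ψ := Quadratic.act_injective W L hLW hT1
  have hquad : ∀ (C : Subgroup G) (hC : Tv p V H C) (c : L), Subgroup.zpowers (c : G) = C →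
      (ψ c - 1) * (ψ c - 1) = 0 := by
    intro C hC c hc
    refine Quadratic.act_quadratic W L hLW ?_
    rw [hc, eq_bot_iff]
    refine le_trans (Subgroup.commutator_mono (Subgroup.commutator_mono hWV le_rfl) le_rfl) ?_
    exact (commutator_eq_bot_of_le_centralizer
      (Subgroup.le_centralizer_iff.1 ((hC.commutator_le_fix hS).trans inf_le_right))).le
  have hfixA : W ⊓ Subgroup.centralizer (A : Set G) = ⁅V, A⁆ := by
    refine (Subgroup.eq_of_le_of_card_ge
      (le_inf le_sup_left ((hA.commutator_le_fix hS).trans inf_le_right)) ?_).symm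
    rw [hcA]
    rcases (Nat.dvd_prime_pow hp.out).1
      (hWcard ▸ Subgroup.card_dvd_of_le (inf_le_left : W ⊓ Subgroup.centralizer (A : Set G) ≤ W))
      with ⟨j, hj, hj'⟩
    rcases (show j ≤ 1 ∨ j = 2 by omega) with h | rfl
    · rw [hj']; exact (Nat.pow_le_pow_right hp.out.pos h).trans (pow_one p).le
    · exfalso
      have e := Subgroup.eq_of_le_of_card_ge
        (inf_le_left : W ⊓ Subgroup.centralizer (A : Set G) ≤ W) (by rw [hj', hWcard])
      exact hnot A hA le_sup_left (inf_eq_left.1 e)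
  have hirr : Quadratic.Irreducible ψ := by
    haveI : Nontrivial (Additive W) := by
      haveI : Nontrivial W := (Subgroup.nontrivial_iff_ne_bot W).2 fun h => by
        rw [h, Subgroup.card_bot] at hWcard
        exact (Nat.one_lt_pow two_ne_zero hp.out.one_lt).ne hWcard
      infer_instance
    refine ⟨inferInstance, fun U hU => ?_⟩
    set U' := (AddSubgroup.toSubgroup' U).map W.subtype with hU'
    have hU'W : U' ≤ W := Subgroup.map_subtype_le _
    have hinv : ∀ g ∈ L, ∀ u ∈ U', g * u * g⁻¹ ∈ U' := by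
      rintro g hg _ ⟨u, hu, rfl⟩
      exact ⟨(ψ ⟨g, hg⟩ (Additive.ofMul u)).toMul, hU ⟨g, hg⟩ _ hu, rfl⟩
    have hLU : L ≤ Subgroup.normalizer (U' : Set G) := by
      intro g hg
      rw [Subgroup.mem_normalizer_iff]
      refine fun u => ⟨hinv g hg u, fun hu => ?_⟩
      simpa [mul_assoc] using hinv g⁻¹ (inv_mem hg) _ hu
    obtain ⟨j, hj, hj'⟩ := (Nat.dvd_prime_pow hp.out).1 (hWcard ▸ Subgroup.card_dvd_of_le hU'W)
    have hcU : Nat.card U' = Nat.card (AddSubgroup.toSubgroup' U) :=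
      Subgroup.card_map_of_injective W.subtype_injective
    rcases (show j = 0 ∨ j = 1 ∨ j = 2 by omega) with rfl | rfl | rfl
    · left
      have : AddSubgroup.toSubgroup' U = ⊥ :=
        Subgroup.eq_bot_of_card_eq _ (by rw [← hcU, hj', pow_zero])
      exact AddSubgroup.toSubgroup'.injective (this.trans AddSubgroup.toSubgroup'.map_bot.symm)
    · exfalso
      rw [pow_one] at hj'
      have h1 : U' ≤ Subgroup.centralizer (A : Set G) := Subgroup.le_centralizer_iff.1
        (le_centralizer_of_card hA.isPGroup hj' (le_sup_left.trans hLU))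
      have h2 : U' ≤ Subgroup.centralizer (B : Set G) := Subgroup.le_centralizer_iff.1
        (le_centralizer_of_card hB.isPGroup hj' (le_sup_right.trans hLU))
      have h3 : U' = ⁅V, A⁆ := Subgroup.eq_of_le_of_card_ge
        ((le_inf hU'W h1).trans hfixA.le) (by rw [hcA, hj'])
      exact hAB (h3 ▸ h2)
    · right
      have : AddSubgroup.toSubgroup' U = ⊤ :=
        Subgroup.eq_top_of_card_eq _ (by rw [← hcU, hj', hWcard])
      exact AddSubgroup.toSubgroup'.injective (this.trans AddSubgroup.toSubgroup'.map_top.symm)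
  have hnt : ∃ g, ψ g ≠ 1 := ⟨⟨a, haL⟩, fun h => by
    have := hψinj (h.trans (map_one ψ).symm)
    exact ha1 (Subtype.ext (congrArg Subtype.val this :))⟩
  obtain ⟨F, i1, i2, i3, lam, hlam, -, ρ, hρa, hρb, hρ, e, he⟩ :=
    Quadratic.exists_sl2_of_irreducible (Quadratic.act_nsmul hWe) ψ hirr
      (Quadratic.closure_pair_eq_top hgenL haL hbL) (hquad A hA ⟨a, haL⟩ hza)
      (hquad B hB ⟨b, hbL⟩ hzb) hnt
  letI := i1
  letI := i2
  have hF : Fintype.card F = p := by
    have h1 : Fintype.card (Fin 2 → F) = Nat.card W := by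
      rw [← Nat.card_eq_fintype_card, Nat.card_congr e.toEquiv]
      rfl
    rw [Fintype.card_fun, Fintype.card_fin, hWcard] at h1
    exact (pow_left_inj₀ (Nat.zero_le _) (Nat.zero_le _) two_ne_zero).1 h1
  have hρinj : Function.Injective ρ := by
    rw [injective_iff_map_eq_one]
    intro g hg
    exact hψinj (((hρ g).2 hg).trans (map_one ψ).symm)
  have hρsurj : Function.Surjective ρ := by
    rw [← MonoidHom.range_eq_top]
    haveI : Fact (Nat.card F).Prime := ⟨by rw [Nat.card_eq_fintype_card, hF]; exact hp.out⟩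
    have hup : ∀ t : F, SL2.up t ∈ ρ.range := by
      intro t
      obtain ⟨n, rfl⟩ : t ∈ AddSubgroup.zmultiples lam := by
        rcases (AddSubgroup.zmultiples lam).eq_bot_or_eq_top_of_prime_card with h | h
        · exact absurd (AddSubgroup.zmultiples_eq_bot.1 h) hlam
        · rw [h]; exact AddSubgroup.mem_top t
      show SL2.up (n • lam) ∈ ρ.range
      rw [SL2.up, ofAdd_zsmul, map_zpow]
      exact zpow_mem (show SL2.up lam ∈ ρ.range from ⟨_, hρa⟩) n
    refine SL2.eq_top_of_upper_and_conj _ (SL2.lo 1) ?_ (fun c => hup c.toAdd) fun c => ?_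
    · rw [SL2.lo_coe]; simp
    · exact mul_mem (mul_mem ⟨_, hρb⟩ (hup c.toAdd)) (inv_mem ⟨_, hρb⟩)
  let φ : L ≃* SL(2, ZMod p) := (MulEquiv.ofBijective ρ ⟨hρinj, hρsurj⟩).trans
    (slCongr (ZMod.ringEquiv F hF).symm)
  refine ⟨hWcard, hT1, hcomm, hBA, ?_, ⟨φ⟩, ?_⟩
  · -- `L` is `p`-solvable
    by_contra hsmall
    push Not at hsmall
    have hp5 : 5 ≤ p := by
      rcases Nat.lt_or_ge p 5 with h | h
      · have h2 := hp.out.two_le
        rcases (show p = 2 ∨ p = 3 ∨ p = 4 by omega) with h' | h' | h'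
        · exact absurd h' hsmall.1
        · exact absurd h' hsmall.2
        · exact absurd hp.out (by rw [h']; decide)
      · exact h
    refine Quadratic.not_isPSolvable_sl2 hp5 ?_
    refine PSolvable.isPSolvable_of_surjective φ.toMonoidHom φ.surjective ?_
    haveI hN : (K.subgroupOf L).Normal :=
      Subgroup.normal_subgroupOf_of_le_normalizer (hLH.trans hS.knorm)
    refine PSolvable.isPSolvable_of_quotient (K.subgroupOf L) (Or.inr ?_)
      (PSolvable.isPSolvable_of_isSolvable ?_)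
    · refine hS.cop.coprime_dvd_left ?_
      rw [← Subgroup.inf_subgroupOf_right,
        Nat.card_congr (Subgroup.subgroupOfEquivOfLe (inf_le_right : K ⊓ L ≤ L)).toEquiv]
      exact Subgroup.card_dvd_of_le inf_le_left
    · have hq : IsPGroup p (L ⧸ K.subgroupOf L) := by
        intro x
        obtain ⟨x, rfl⟩ := QuotientGroup.mk_surjective x
        refine ⟨1, ?_⟩
        rw [pow_one, ← QuotientGroup.mk_pow, QuotientGroup.eq_one_iff, Subgroup.mem_subgroupOf,
          Subgroup.coe_pow]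
        haveI : (K.subgroupOf (K ⊔ A0)).Normal :=
          Subgroup.normal_subgroupOf_of_le_normalizer (sup_le Subgroup.le_normalizer
            (hA0.le.trans hS.knorm))
        have hxM : (x : G) ∈ K ⊔ A0 := (sup_le hAK hBK) x.2
        have h1 := Subgroup.pow_index_mem (K.subgroupOf (K ⊔ A0)) ⟨_, hxM⟩
        rw [Subgroup.mem_subgroupOf, Subgroup.coe_pow] at h1
        have h2 : (K.subgroupOf (K ⊔ A0)).index ∣ p := by
          show K.relIndex (K ⊔ A0) ∣ p
          rw [Coprime.relIndex_sup_of_le_normalizer (hA0.le.trans hS.knorm), ← hA0.card,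
            ← Coprime.relIndex_mul_card_inf K A0]
          exact dvd_mul_right _ _
        obtain ⟨c, hc⟩ := h2
        rw [hc, pow_mul]
        exact pow_mem h1 c
      haveI := hq.isNilpotent
      infer_instance
  · intro w₁ hw₁ w₂ hw₂ h1 h2
    have hM : ∀ f : Fin 2 → F, f ≠ 0 → ∃ M : SL(2, F), M.1.mulVec ![1, 0] = f := by
      intro f hf
      by_cases h0 : f 0 = 0
      · have h1' : f 1 ≠ 0 := fun h => hf (by ext i; fin_cases i <;> assumption)
        refine ⟨⟨!![0, -(f 1)⁻¹; f 1, 0], by rw [Matrix.det_fin_two]; simp [h1']⟩, ?_⟩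
        ext i; fin_cases i <;> simp [Matrix.mulVec, dotProduct, h0]
      · refine ⟨⟨!![f 0, 0; f 1, (f 0)⁻¹], by rw [Matrix.det_fin_two]; simp [h0]⟩, ?_⟩
        ext i; fin_cases i <;> simp [Matrix.mulVec, dotProduct]
    have hne0 : ∀ w : W, (w : G) ≠ 1 → e.symm (Additive.ofMul w) ≠ 0 := fun w hw h => by
      have := congrArg e h
      rw [e.apply_symm_apply, map_zero] at this
      exact hw (congrArg (fun v : Additive W => ((v.toMul : W) : G)) this)
    obtain ⟨M₁, hM₁⟩ := hM _ (hne0 ⟨w₁, hw₁⟩ h1)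
    obtain ⟨M₂, hM₂⟩ := hM _ (hne0 ⟨w₂, hw₂⟩ h2)
    obtain ⟨l, hl⟩ := hρsurj (M₂ * M₁⁻¹)
    refine ⟨l, l.2, ?_⟩
    have h := he l (e.symm (Additive.ofMul ⟨w₁, hw₁⟩))
    rw [e.apply_symm_apply, hl, ← hM₁, Matrix.mulVec_mulVec,
      ← Matrix.SpecialLinearGroup.coe_mul, inv_mul_cancel_right, hM₂, e.apply_symm_apply] at h
    exact congrArg (fun v : Additive W => ((v.toMul : W) : G)) h

end Cfsg.Agent.FFPair
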