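import Cfsg.Agent.Lib.FFPair.Component

/-!
# The decomposition of a group generated by offenders
-/

set_option autoImplicit false
set_option linter.style.haveILetI false

namespace Cfsg.Agent.FFPair

open Cfsg CfsgLib
open scoped commutatorElement MatrixGroups IsMulCommutative

universe u

variable {G : Type u} [Group G] [Finite G] {p : ℕ} [hp : Fact p.Prime] {V K H A : Subgroup G}

/-- Minimal best offenders are transvection groups. -/
theorem Tv.of_minimal (hS : Setting p V K H) (hAH : A ≤ H) (hA : IsBestOffenderOn p V A)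
    (hAV : ⁅V, A⁆ ≠ ⊥)
    (hmin : ∀ B : Subgroup G, B ≤ A → IsBestOffenderOn p V B → ⁅V, B⁆ ≠ ⊥ → B = A) :
    Tv p V H A :=
  ⟨hAH, hA, hS.card_of_minimal hAH hA hAV hmin⟩

theorem Tv.minimal (hS : Setting p V K H) (hA : Tv p V H A) :
    ⁅V, A⁆ ≠ ⊥ ∧ ∀ B : Subgroup G, B ≤ A → IsBestOffenderOn p V B → ⁅V, B⁆ ≠ ⊥ → B = A := by
  refine ⟨hS.commutator_ne_bot hA.le hA.ne_bot, fun B hB _ hB1 => ?_⟩
  rcases (Nat.dvd_prime hp.out).1 (hA.card ▸ Subgroup.card_dvd_of_le hB) with h | h
  · exact absurd (by rw [Subgroup.eq_bot_of_card_eq _ h, Subgroup.commutator_bot_right]) hB1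
  · exact Subgroup.eq_of_le_of_card_ge hB (by rw [hA.card, h])

omit hp in
/-- A join of subgroups of prime order is a direct product of some of them. -/
theorem exists_indep {q : ℕ} (hq : q.Prime) (S : Set (Subgroup G))
    (hS : ∀ L ∈ S, Nat.card L = q) :
    ∃ (k : ℕ) (B : Fin k → Subgroup G), (∀ i, B i ∈ S) ∧ iSupIndep B ∧ ⨆ i, B i = sSup S := by
  classical
  haveI : Fintype (Subgroup G) := Fintype.ofFinite _
  obtain ⟨s, hs, hmin⟩ := Finset.exists_min_image
    (Finset.univ.filter fun s : Finset (Subgroup G) => ↑s ⊆ S ∧ s.sup id = sSup S)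
    Finset.card ⟨S.toFinset, by
      simp only [Finset.mem_filter, Finset.mem_univ, true_and, Set.coe_toFinset, subset_refl]
      rw [Finset.sup_id_eq_sSup, Set.coe_toFinset]⟩
  simp only [Finset.mem_filter, Finset.mem_univ, true_and] at hs hmin
  let e := s.equivFin
  refine ⟨s.card, fun i => (e.symm i : Subgroup G), fun i => hs.1 (e.symm i).2, fun i => ?_, ?_⟩
  · rw [disjoint_iff]
    by_contra h
    have hle : (e.symm i : Subgroup G) ≤
        ⨆ (j) (_ : j ≠ i), (e.symm j : Subgroup G) := by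
      have hc := hS _ (hs.1 (e.symm i).2)
      rcases (Nat.dvd_prime hq).1 (hc ▸ Subgroup.card_dvd_of_le
        (inf_le_left : (e.symm i : Subgroup G) ⊓ (⨆ (j) (_ : j ≠ i), (e.symm j : Subgroup G)) ≤ _))
        with h' | h'
      · exact absurd (Subgroup.eq_bot_of_card_eq _ h') h
      · exact inf_eq_left.1 (Subgroup.eq_of_le_of_card_ge inf_le_left (by rw [hc, h']))
    have hlt := hmin (s.erase (e.symm i : Subgroup G))
      ⟨(Finset.coe_subset.2 (Finset.erase_subset _ _)).trans hs.1, ?_⟩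
    · exact (Finset.card_erase_lt_of_mem (e.symm i).2).not_ge hlt
    rw [← hs.2]
    refine le_antisymm (Finset.sup_mono (Finset.erase_subset _ _)) (Finset.sup_le fun L hL => ?_)
    by_cases hLi : L = (e.symm i : Subgroup G)
    · rw [hLi]
      refine hle.trans (iSup₂_le fun j hj => Finset.le_sup (f := id)
        (Finset.mem_erase.2 ⟨fun h => hj (e.symm.injective (Subtype.ext h)), (e.symm j).2⟩))
    · exact Finset.le_sup (f := id) (Finset.mem_erase.2 ⟨hLi, hL⟩)
  · rw [← hs.2, Finset.sup_id_eq_sSup]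
    refine le_antisymm (iSup_le fun i => le_sSup (e.symm i).2) (sSup_le fun L hL => ?_)
    refine le_trans (le_of_eq ?_) (le_iSup _ (e ⟨L, hL⟩))
    simp

/-- Product of minimal best offenders. -/
theorem exists_minimal_product (hS : Setting p V K H) (hAH : A ≤ H)
    (hA : IsBestOffenderOn p V A) : ∃ (k : ℕ) (B : Fin k → Subgroup G),
      (∀ i, B i ≤ A ∧ IsBestOffenderOn p V (B i) ∧ ⁅V, B i⁆ ≠ ⊥ ∧
        ∀ C : Subgroup G, C ≤ B i → IsBestOffenderOn p V C → ⁅V, C⁆ ≠ ⊥ → C = B i) ∧
      iSupIndep B ∧ ⨆ i, B i = A := by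
  obtain ⟨k, B, hB, hind, hsup⟩ := exists_indep hp.out
    {L : Subgroup G | L ≤ A ∧ IsBestOffenderOn p V L ∧ Nat.card L = p} (fun L hL => hL.2.2)
  refine ⟨k, B, fun i => ?_, hind, ?_⟩
  · obtain ⟨h1, h2, h3⟩ := hB i
    exact ⟨h1, h2, Tv.minimal hS ⟨h1.trans hAH, h2, h3⟩⟩
  · rw [hsup, sSup_eq_iSup']
    exact (hS.eq_iSup_lines hAH hA).symm

/-- The complementary factor of a component. -/
abbrev rest (V K H A : Subgroup G) : Subgroup G :=
  H ⊓ Subgroup.centralizer (modl V K A : Set G)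

/-- A component is a direct factor. -/
theorem direct_factor (hS : Setting p V K H)
    (hS3 : H = ⨆ A : {A : Subgroup G // A ≤ H ∧ IsBestOffenderOn p V A}, (A : Subgroup G))
    (hA : Tv p V H A) :
    ⁅comp K A, rest V K H A⁆ = ⊥ ∧ comp K A ⊓ rest V K H A = ⊥ ∧
      comp K A ⊔ rest V K H A = H ∧ ⁅V, rest V K H A⁆ ≤ cfix V (comp K A) := by
  have D := compData hS hA
  have hRC : rest V K H A ≤ Subgroup.normalizer (cfix V (comp K A) : Set G) :=
    le_normalizer_fix hS inf_le_left (inf_le_left.trans (normalizes_comp hS hS3 hA))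
  have hEc : comp K A ≤ Subgroup.centralizer (cfix V (comp K A) : Set G) :=
    Subgroup.le_centralizer_iff.1 inf_le_right
  have hEn : comp K A ≤ Subgroup.normalizer (modl V K A : Set G) :=
    le_normalizer_of_commutator_le (modl_le hS hA) le_rfl
  refine ⟨le_bot_iff.1 (Subgroup.commutator_le.2 fun e he f hf => ?_), ?_, ?_, ?_⟩
  · rw [← hS.faithful]
    refine Subgroup.mem_inf.2 ⟨?_, ?_⟩
    · rw [commutatorElement_def]
      exact mul_mem (mul_mem (mul_mem (D.le he) hf.1) (inv_mem (D.le he))) (inv_mem hf.1)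
    · have hw := commutator_mem_centralizer (hEn he) hf.2
      have hc : ⁅e, f⁆ ∈ Subgroup.centralizer (cfix V (comp K A) : Set G) := by
        rw [← commutatorElement_inv]
        exact inv_mem (commutator_mem_centralizer (hRC hf) (hEc he))
      have h3 : modl V K A ⊔ cfix V (comp K A) ≤ Subgroup.centralizer ({⁅e, f⁆} : Set G) :=
        sup_le (fun w hw' => Subgroup.mem_centralizer_singleton_iff.2 (hw w hw'))
          (fun w hw' => Subgroup.mem_centralizer_singleton_iff.2 (hc w hw'))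
      rw [D.sup_eq] at h3
      exact fun v hv => Subgroup.mem_centralizer_singleton_iff.1 (h3 hv)
  · exact le_bot_iff.1 ((inf_le_inf_left _ inf_le_right).trans D.faithful.le)
  · refine le_antisymm (sup_le D.le inf_le_left) ?_
    conv_lhs => rw [le_iSup_tv hS hS3]
    refine iSup_le fun B => ?_
    by_cases heq : modl V K A = modl V K B.1
    · exact (le_comp_of_eq hS hA B.2 heq).trans le_sup_left
    · exact le_sup_of_le_right (le_inf B.2.le
        ((le_sup_right : B.1 ≤ comp K B.1).trans (commute_of_ne hS hA B.2 heq).1))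
  · refine Subgroup.commutator_le.2 fun v hv r hr => ?_
    have hcn : cfix V (comp K A) ≤ Subgroup.normalizer (modl V K A : Set G) := fun c hc =>
      Subgroup.centralizer_le_normalizer _ fun w hw =>
        commute_of_elem hS.elem (modl_le hS hA hw) hc.1
    rw [← D.sup_eq, ← SetLike.mem_coe, Subgroup.coe_mul_of_right_le_normalizer_left _ _ hcn,
      Set.mem_mul] at hv
    obtain ⟨w, hw, c, hc, rfl⟩ := hv
    have hcr : ⁅c, r⁆ ∈ cfix V (comp K A) := by
      rw [show ⁅c, r⁆ = c * (r * c⁻¹ * r⁻¹) by rw [commutatorElement_def]; group]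
      exact mul_mem hc ((Subgroup.mem_normalizer_iff.1 (hRC hr) _).1 (inv_mem hc))
    have h1 : w * r = r * w := hr.2 w hw
    have h2 : ⁅w * c, r⁆ = w * ⁅c, r⁆ * w⁻¹ * ⁅w, r⁆ := by
      simp only [commutatorElement_def]; group
    rw [h2, commutatorElement_eq_one_iff_mul_comm.2 h1, mul_one,
      commute_of_elem hS.elem (modl_le hS hA hw) hcr.1, mul_inv_cancel_right]
    exact hcr

theorem comp_eq_or_le_rest (hS : Setting p V K H) {B : Subgroup G} (hA : Tv p V H A)
    (hB : Tv p V H B) :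
    comp K A = comp K B ∨ comp K B ≤ rest V K H A := by
  by_cases heq : modl V K A = modl V K B
  · exact Or.inl (comp_eq_of_eq hS hA hB heq)
  · exact Or.inr (le_inf (compData hS hB).le (commute_of_ne hS hA hB heq).1)

/-- The decomposition of `H` and of `V` into the components. -/
theorem decomposition (hS : Setting p V K H)
    (hS3 : H = ⨆ A : {A : Subgroup G // A ≤ H ∧ IsBestOffenderOn p V A}, (A : Subgroup G))
    {ι : Sort*} (E : ι → Subgroup G) (hinj : Function.Injective E)
    (hE : ∀ i, ∃ A, Tv p V H A ∧ E i = comp K A)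
    (hmem : ∀ A, Tv p V H A → ∃ i, E i = comp K A) :
    iSupIndep E ∧ ⨆ i, E i = H ∧
      (∀ i, ⁅V, E i⁆ ⊓ ((⨆ (j) (_ : j ≠ i), ⁅V, E j⁆) ⊔ cfix V H) = ⊥) ∧
      cfix V H ⊓ (⨆ i, ⁅V, E i⁆) = ⊥ ∧ cfix V H ⊔ (⨆ i, ⁅V, E i⁆) = V := by
  haveI := hS.elem.1
  have hEH : ⨆ i, E i = H := by
    refine le_antisymm (iSup_le fun i => ?_) ?_
    · obtain ⟨A, hA, e⟩ := hE i
      rw [e]
      exact (compData hS hA).le
    · conv_lhs => rw [le_iSup_tv hS hS3]
      refine iSup_le fun A => ?_
      obtain ⟨i, e⟩ := hmem A.1 A.2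
      exact le_iSup_of_le i (e ▸ (le_sup_right : (A : Subgroup G) ≤ comp K A))
  set X := ⨆ A : {A : Subgroup G // Tv p V H A}, ⁅K, (A : Subgroup G)⁆ with hX
  have hXK : X ≤ K := iSup_le fun A => comm_le hS A.2
  have hcop : (Nat.card X).Coprime (Nat.card V) := by
    obtain ⟨n, hn⟩ := IsPGroup.iff_card.1 (isPGroup_of_elem hS.elem)
    rw [hn]
    exact (hS.cop.coprime_dvd_left (Subgroup.card_dvd_of_le hXK)).pow_right n
  have hXV := (hXK.trans hS.le).trans hS.norm
  have hWle : ∀ i, ⁅V, E i⁆ ≤ ⁅V, X⁆ := fun i => by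
    obtain ⟨A, hA, e⟩ := hE i
    rw [e]
    exact (compData hS hA).comm_eq.ge.trans (Subgroup.commutator_mono le_rfl
      (le_iSup (fun A : {A : Subgroup G // Tv p V H A} => ⁅K, (A : Subgroup G)⁆) ⟨A, hA⟩))
  refine ⟨fun i => ?_, hEH, fun i => ?_, ?_, ?_⟩
  · obtain ⟨A, hA, e⟩ := hE i
    rw [disjoint_iff, eq_bot_iff]
    refine le_trans (inf_le_inf_left _ (?_ : _ ≤ rest V K H A))
      (le_of_le_of_eq ?_ (direct_factor hS hS3 hA).2.1)
    · refine iSup₂_le fun j hj => ?_
      obtain ⟨B, hB, e'⟩ := hE j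
      rw [e']
      exact (comp_eq_or_le_rest hS hA hB).resolve_left fun h => hj (hinj (by rw [e, e', h]))
    · rw [e]
  · obtain ⟨A, hA, e⟩ := hE i
    rw [eq_bot_iff]
    refine le_trans (inf_le_inf_left _ (?_ : _ ≤ cfix V (comp K A)))
      (le_of_le_of_eq ?_ (compData hS hA).inf_eq)
    · refine sup_le (iSup₂_le fun j hj => ?_)
        (inf_le_inf_left V (Subgroup.centralizer_le (compData hS hA).le))
      obtain ⟨B, hB, e'⟩ := hE j
      rw [e']
      exact (eq_or_le_fix hS hB hA).resolve_left fun h =>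
        hj (hinj (by rw [e, e', comp_eq_of_eq hS hB hA h]))
    · rw [e]
  · rw [eq_bot_iff]
    exact le_trans (inf_le_inf (inf_le_inf_left V (Subgroup.centralizer_le (hXK.trans hS.le)))
      (iSup_le hWle)) (Coprime.centralizer_inf_commutator_eq_bot hXV hcop).le
  · refine le_antisymm (sup_le inf_le_left (iSup_le fun i =>
      (hWle i).trans (Coprime.commutator_le_left_of_le_normalizer hXV))) ?_
    conv_lhs => rw [← Coprime.centralizer_sup_commutator_eq hXV hcop]
    refine sup_le (le_sup_of_le_left (le_inf inf_le_left ?_)) (le_sup_of_le_right ?_)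
    · rw [Subgroup.le_centralizer_iff]
      conv_lhs => rw [le_iSup_tv hS hS3]
      refine iSup_le fun A => ?_
      refine (le_sup_right : (A : Subgroup G) ≤ comp K A).trans (Subgroup.le_centralizer_iff.1 ?_)
      exact (le_inf inf_le_left (inf_le_right.trans (Subgroup.centralizer_le
        (le_iSup (fun A : {A : Subgroup G // Tv p V H A} => ⁅K, (A : Subgroup G)⁆) A)))).trans
        ((compData hS A.2).fix_eq.le.trans inf_le_right)
    · have hWV : ⨆ i, ⁅V, E i⁆ ≤ V :=
        iSup_le fun i => (hWle i).trans (Coprime.commutator_le_left_of_le_normalizer hXV)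
      refine (le_trivOn_iff.1 (iSup_le fun A => le_trivOn_of_commutator_le hWV ?_)).2
      obtain ⟨i, e⟩ := hmem A.1 A.2
      exact (compData hS A.2).comm_eq.le.trans (le_iSup_of_le i (le_of_eq (by rw [e])))

end Cfsg.Agent.FFPair
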