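import Cfsg.Agent.Lib.FFPair.Basic
import Cfsg.Agent.S0597

/-!
# Two subnormal subgroups with irreducible commutator modules

If neither of the modules `[V, E₁]`, `[V, E₂]` contains the other and `|Eᵢ| > 2`, then `E₁` and
`E₂` commute.
-/

set_option autoImplicit false
set_option linter.style.haveILetI false

namespace Cfsg.Agent.FFPair

open Cfsg CfsgLib
open scoped commutatorElement

universe u

variable {G : Type u} [Group G] [Finite G] {p : ℕ} [hp : Fact p.Prime] {V : Subgroup G}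

theorem map_conj_eq_of_mem {H : Type*} [Group H] {X : Subgroup H} {g : H}
    (h : g ∈ Subgroup.normalizer (X : Set H)) : X.map (MulAut.conj g).toMonoidHom = X :=
  Subgroup.mem_normalizer_iff_map_conj_eq.1 h

/-- `F` acts irreducibly on `[V, F]`. -/
def IrrOn (V F : Subgroup G) : Prop :=
  ∀ U : Subgroup G, U ≤ ⁅V, F⁆ → F ≤ Subgroup.normalizer (U : Set G) → U = ⊥ ∨ U = ⁅V, F⁆

/-- A subnormal `p`-subgroup is trivial when `O_p(E) = 1`. -/
theorem eq_bot_of_subnormal {E S : Subgroup G} (hOp : Cfsg.pCore p E = ⊥) (hSE : S ≤ E)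
    (hs : (S.subgroupOf E).IsSubnormal) (hS : IsPGroup p S) : S = ⊥ := by
  have h := Layer.le_pCore_of_isSubnormal hs (hS.comap_of_injective E.subtype E.subtype_injective)
  rw [hOp, le_bot_iff, Subgroup.subgroupOf_eq_bot] at h
  exact (inf_eq_left.2 hSE).symm.trans (disjoint_iff.1 h)

/-- A stabilizer of `V ≥ W ≥ 1` in a faithful group is a `p`-group. -/
theorem isPGroup_of_stab {E S W : Subgroup G} (hV : IsElementaryAbelian p V)
    (hf : E ⊓ Subgroup.centralizer (V : Set G) = ⊥) (hSE : S ≤ E) (hW : W ≤ V)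
    (hVS : ⁅V, S⁆ ≤ W) (hSW : S ≤ Subgroup.centralizer (W : Set G)) : IsPGroup p S := fun s =>
  ⟨1, Subtype.ext (by
    rw [pow_one, Subgroup.coe_pow]
    exact (Subgroup.eq_bot_iff_forall _).1 hf _ ⟨hSE (pow_mem s.2 p),
      pow_mem_centralizer hV hW (le_trivOn_of_commutator_le hW hVS s.2) (hSW s.2)⟩)⟩

variable {E F F₁ F₂ : Subgroup G}

omit hp in
theorem modV_le (hEV : E ≤ Subgroup.normalizer (V : Set G)) (hF : F ≤ E) : ⁅V, F⁆ ≤ V :=
  Coprime.commutator_le_left_of_le_normalizer (hF.trans hEV)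

omit hp in
theorem normalizes_modV (hEV : E ≤ Subgroup.normalizer (V : Set G)) (hF : F ≤ E) :
    F ≤ Subgroup.normalizer ((⁅V, F⁆ : Subgroup G) : Set G) :=
  le_normalizer_of_commutator_le (modV_le hEV hF) le_rfl

/-- No fixed points on the irreducible module. -/
theorem fixed_eq_bot (hV : IsElementaryAbelian p V) (hEV : E ≤ Subgroup.normalizer (V : Set G))
    (hf : E ⊓ Subgroup.centralizer (V : Set G) = ⊥) (hOp : Cfsg.pCore p E = ⊥) (hF : F ≤ E)
    (hs : (F.subgroupOf E).IsSubnormal) (hirr : IrrOn V F) (hc : 2 < Nat.card F) :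
    ⁅V, F⁆ ⊓ Subgroup.centralizer (F : Set G) = ⊥ := by
  refine (hirr _ inf_le_left (Coprime.le_normalizer_inf_of_le (normalizes_modV hEV hF)
    (Coprime.le_normalizer_centralizer Subgroup.le_normalizer))).resolve_right fun h => ?_
  have hb := eq_bot_of_subnormal hOp hF hs (isPGroup_of_stab hV hf hF (modV_le hEV hF) le_rfl
    (Subgroup.le_centralizer_iff.1 (inf_eq_left.1 h)))
  rw [hb, Subgroup.card_bot] at hc
  omega

/-- If `F₁` normalises the module of `F₂`, then all is decided. -/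
theorem commute_of_normalizes (hV : IsElementaryAbelian p V)
    (hEV : E ≤ Subgroup.normalizer (V : Set G)) (hf : E ⊓ Subgroup.centralizer (V : Set G) = ⊥)
    (hOp : Cfsg.pCore p E = ⊥) (h₁ : F₁ ≤ E) (h₂ : F₂ ≤ E)
    (hs₁ : (F₁.subgroupOf E).IsSubnormal) (hs₂ : (F₂.subgroupOf E).IsSubnormal)
    (hirr : IrrOn V F₁) (h12 : ¬ ⁅V, F₁⁆ ≤ ⁅V, F₂⁆)
    (hn : F₁ ≤ Subgroup.normalizer ((⁅V, F₂⁆ : Subgroup G) : Set G)) :
    ⁅F₁, F₂⁆ = ⊥ ∧ ⁅V, F₁⁆ ⊓ ⁅V, F₂⁆ = ⊥ := by
  have hbot : ⁅V, F₁⁆ ⊓ ⁅V, F₂⁆ = ⊥ :=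
    (hirr _ inf_le_left (Coprime.le_normalizer_inf_of_le (normalizes_modV hEV h₁) hn)).resolve_right
      fun h => h12 (inf_eq_left.1 h)
  refine ⟨?_, hbot⟩
  have h := Cfsg.Agent.S0597.result (p := p) V E hV hEV hf F₂ F₁ h₂ h₁ hs₂ hs₁
    (le_bot_iff.1 ((le_inf (Subgroup.commutator_mono (modV_le hEV h₂) le_rfl)
      (Coprime.commutator_le_left_of_le_normalizer hn)).trans hbot.le))
  rw [hOp, Subgroup.map_bot, le_bot_iff, Subgroup.commutator_comm] at h
  exact h

/-- The commutator map `u ↦ [u, e]` on `U₁` is injective when `U₁ ∩ U₁^e = 1`. -/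
theorem card_le_of_moves (hV : IsElementaryAbelian p V)
    (hEV : E ≤ Subgroup.normalizer (V : Set G)) {U : Subgroup G} (hU : U ≤ V) (h₂ : F₂ ≤ E)
    {e : G} (he : e ∈ F₂) (hmove : U ⊓ U.map (MulAut.conj e).toMonoidHom = ⊥) :
    Nat.card U ≤ Nat.card ↥⁅V, F₂⁆ ∧
      (Nat.card ↥⁅V, F₂⁆ ≤ Nat.card U → ⁅V, F₂⁆ ≤ U ⊔ U.map (MulAut.conj e).toMonoidHom) := by
  let f : U → ↥⁅V, F₂⁆ := fun u =>
    ⟨⁅(u : G), e⁆, Subgroup.commutator_mem_commutator (hU u.2) he⟩
  have hf : Function.Injective f := by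
    intro a b h
    have h' : (a : G) * (e * (a : G)⁻¹ * e⁻¹) = (b : G) * (e * (b : G)⁻¹ * e⁻¹) := by
      have h1 := congrArg Subtype.val h
      simpa only [f, commutatorElement_def, mul_assoc] using h1
    have hconj : ∀ u ∈ U, e * u * e⁻¹ ∈ V := fun u hu =>
      (Subgroup.mem_normalizer_iff.1 (hEV (h₂ he)) u).1 (hU hu)
    have h2 : (b : G)⁻¹ * a = e * ((b : G)⁻¹ * a) * e⁻¹ := by
      calc (b : G)⁻¹ * a = (b : G)⁻¹ * ((a : G) * (e * (a : G)⁻¹ * e⁻¹)) * (e * a * e⁻¹) := by group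
        _ = e * (b : G)⁻¹ * e⁻¹ * (e * a * e⁻¹) := by rw [h']; group
        _ = e * ((b : G)⁻¹ * a) * e⁻¹ := by group
    have h3 : (b : G)⁻¹ * a ∈ U ⊓ U.map (MulAut.conj e).toMonoidHom :=
      Subgroup.mem_inf.2 ⟨mul_mem (inv_mem b.2) a.2, ⟨_, mul_mem (inv_mem b.2) a.2, h2.symm⟩⟩
    rw [hmove, Subgroup.mem_bot, inv_mul_eq_one] at h3
    exact Subtype.ext h3.symm
  refine ⟨Nat.card_le_card_of_injective f hf, fun hle x hx => ?_⟩
  obtain ⟨u, hu⟩ := ((Nat.bijective_iff_injective_and_card f).2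
    ⟨hf, le_antisymm (Nat.card_le_card_of_injective f hf) hle⟩).2 ⟨x, hx⟩
  have h1 : ⁅(u : G), e⁆ = x := congrArg Subtype.val hu
  rw [← h1, commutatorElement_def, mul_assoc (u : G) e, mul_assoc]
  exact mul_mem (le_sup_left (b := U.map (MulAut.conj e).toMonoidHom) u.2)
    (le_sup_right (a := U) ⟨_, inv_mem u.2, rfl⟩)

omit [Finite G] hp in
theorem modV_conj (hEV : E ≤ Subgroup.normalizer (V : Set G)) {g : G} (hg : g ∈ E) :
    ⁅V, F.map (MulAut.conj g).toMonoidHom⁆ = (⁅V, F⁆).map (MulAut.conj g).toMonoidHom := by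
  rw [Subgroup.map_commutator, map_conj_eq_of_mem (hEV hg)]

omit [Finite G] hp in
theorem conj_facts (hEV : E ≤ Subgroup.normalizer (V : Set G)) (hF : F ≤ E)
    (hs : (F.subgroupOf E).IsSubnormal) (hirr : IrrOn V F) {g : G} (hg : g ∈ E) :
    F.map (MulAut.conj g).toMonoidHom ≤ E ∧
      ((F.map (MulAut.conj g).toMonoidHom).subgroupOf E).IsSubnormal ∧
      IrrOn V (F.map (MulAut.conj g).toMonoidHom) := by
  refine ⟨?_, ?_, fun U hU hn => ?_⟩
  · rintro _ ⟨x, hx, rfl⟩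
    exact mul_mem (mul_mem hg (hF hx)) (inv_mem hg)
  · have h := hs.map (f := (MulAut.conj (⟨g, hg⟩ : E)).toMonoidHom) (MulEquiv.surjective _)
    convert h using 1
    ext x
    constructor
    · rintro ⟨y, hy, e⟩
      exact ⟨⟨y, hF hy⟩, hy, Subtype.ext e⟩
    · rintro ⟨y, hy, rfl⟩
      exact ⟨y, hy, rfl⟩
  · rw [modV_conj hEV hg] at hU ⊢
    set φ := (MulAut.conj g).toMonoidHom with hφ
    have hU' : U = (U.comap φ).map φ :=
      (Subgroup.map_comap_eq_self_of_surjective (MulAut.conj g).surjective _).symm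
    have hle : U.comap φ ≤ ⁅V, F⁆ := fun x hx => by
      obtain ⟨y, hy, e⟩ := hU hx
      exact (MulAut.conj g).injective e ▸ hy
    have hn' : F ≤ Subgroup.normalizer ((U.comap φ : Subgroup G) : Set G) := fun x hx =>
      Subgroup.le_normalizer_comap φ (hn ⟨x, hx, rfl⟩)
    rcases hirr _ hle hn' with h | h
    · exact Or.inl (by rw [hU', h, Subgroup.map_bot])
    · exact Or.inr (by rw [hU', h])

theorem pair_aux (hV : IsElementaryAbelian p V) (n : ℕ) : ∀ E : Subgroup G, Nat.card E = n →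
    E ≤ Subgroup.normalizer (V : Set G) → E ⊓ Subgroup.centralizer (V : Set G) = ⊥ →
    Cfsg.pCore p E = ⊥ → ∀ F₁ F₂ : Subgroup G, F₁ ≤ E → F₂ ≤ E →
    (F₁.subgroupOf E).IsSubnormal → (F₂.subgroupOf E).IsSubnormal → IrrOn V F₁ → IrrOn V F₂ →
    ¬ ⁅V, F₁⁆ ≤ ⁅V, F₂⁆ → ¬ ⁅V, F₂⁆ ≤ ⁅V, F₁⁆ → 2 < Nat.card F₁ → 2 < Nat.card F₂ →
    ⁅F₁, F₂⁆ = ⊥ ∧ ⁅V, F₁⁆ ⊓ ⁅V, F₂⁆ = ⊥ := by
  induction n using Nat.strong_induction_on with
  | _ n IH =>
  intro E hn hEV hf hOp F₁ F₂ h₁ h₂ hs₁ hs₂ hi₁ hi₂ h12 h21 hc₁ hc₂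
  by_cases hN₂ : F₂ ≤ Subgroup.normalizer ((⁅V, F₁⁆ : Subgroup G) : Set G)
  · obtain ⟨a, b⟩ := commute_of_normalizes hV hEV hf hOp h₂ h₁ hs₂ hs₁ hi₂ h21 hN₂
    exact ⟨by rwa [Subgroup.commutator_comm], by rwa [inf_comm]⟩
  by_cases hN₁ : F₁ ≤ Subgroup.normalizer ((⁅V, F₂⁆ : Subgroup G) : Set G)
  · exact commute_of_normalizes hV hEV hf hOp h₁ h₂ hs₁ hs₂ hi₁ h12 hN₁
  exfalso
  -- conjugates of one of the two have pairwise independent modules
  have key : ∀ F F' : Subgroup G, F ≤ E → F' ≤ E → (F.subgroupOf E).IsSubnormal → IrrOn V F →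
      2 < Nat.card F → ¬ ⁅V, F'⁆ ≤ ⁅V, F⁆ → ∀ g ∈ E, ∀ h ∈ E,
      (⁅V, F⁆).map (MulAut.conj g).toMonoidHom ≠ (⁅V, F⁆).map (MulAut.conj h).toMonoidHom →
      (⁅V, F⁆).map (MulAut.conj g).toMonoidHom ⊓ (⁅V, F⁆).map (MulAut.conj h).toMonoidHom = ⊥ ∧
        F.map (MulAut.conj h).toMonoidHom ≤ Subgroup.centralizer
          (((⁅V, F⁆).map (MulAut.conj g).toMonoidHom : Subgroup G) : Set G) := by
    intro F F' hF hF' hs hirr hc hnle g hg h hh hne
    obtain ⟨hgE, hgs, hgi⟩ := conj_facts hEV hF hs hirr hg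
    obtain ⟨hhE, hhs, hhi⟩ := conj_facts hEV hF hs hirr hh
    set A := F.map (MulAut.conj g).toMonoidHom with hA
    set B := F.map (MulAut.conj h).toMonoidHom with hB
    set E' := A ⊔ B with hE'
    have hE'E : E' ≤ E := sup_le hgE hhE
    have hlt : Nat.card E' < n := by
      set N := Subgroup.normalClosure ((F.subgroupOf E : Subgroup E) : Set E) with hN
      have hNt : N ≠ ⊤ := by
        rcases hs.lt_normal with htop | ⟨K, hK, hFK, hlt⟩
        · exact absurd (Subgroup.commutator_mono le_rfl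
            (hF'.trans (Subgroup.subgroupOf_eq_top.1 htop))) hnle
        · haveI := hK
          exact fun e => hlt.ne (top_le_iff.1 (e ▸ Subgroup.normalClosure_le_normal hFK))
      have hcon : ∀ k ∈ E, F.map (MulAut.conj k).toMonoidHom ≤ N.map E.subtype := by
        rintro k hk _ ⟨x, hx, rfl⟩
        exact ⟨⟨k, hk⟩ * ⟨x, hF hx⟩ * ⟨k, hk⟩⁻¹,
          Subgroup.normalClosure_normal.conj_mem (⟨x, hF hx⟩ : E)
            (Subgroup.subset_normalClosure (show (⟨x, hF hx⟩ : E) ∈ F.subgroupOf E from hx)) _, rfl⟩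
      refine lt_of_le_of_lt (Subgroup.card_le_of_le (sup_le (hcon g hg) (hcon h hh))) ?_
      rw [Subgroup.card_map_of_injective E.subtype_injective, ← hn]
      exact lt_of_le_of_ne (Subgroup.card_le_card_group N)
        fun e => hNt (Subgroup.eq_top_of_card_eq _ e)
    have hE's : (E'.subgroupOf E).IsSubnormal := by
      rw [hE', Subgroup.subgroupOf_sup hgE hhE]
      exact Subnormal.isSubnormal_sup hgs hhs
    have hsub : ∀ Y : Subgroup G, (Y.subgroupOf E).IsSubnormal →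
        (Y.subgroupOf E').IsSubnormal := fun Y hY => hY.comap (Subgroup.inclusion hE'E)
    have hOp' : Cfsg.pCore p E' = ⊥ := by
      have hle : (Cfsg.pCore p E').map E'.subtype ≤ E' := Subgroup.map_subtype_le _
      have h0 : (Cfsg.pCore p E').map E'.subtype = ⊥ := by
        refine eq_bot_of_subnormal hOp (hle.trans hE'E) ?_ ((Fitting.pCore_isPGroup p).map _)
        refine Subgroup.IsSubnormal.step _ (E'.subgroupOf E) (Subgroup.comap_mono hle) hE's
          ((Subgroup.normal_subgroupOf_iff_le_normalizer (Subgroup.comap_mono hle)).2 fun x hx => ?_)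
        refine Subgroup.le_normalizer_comap E.subtype ?_
        exact PSolvable.le_normalizer_map_of_characteristic Subgroup.le_normalizer _ hx
      exact (Subgroup.map_eq_bot_iff_of_injective _ E'.subtype_injective).1 h0
    have hcard : Nat.card ↥⁅V, A⁆ = Nat.card ↥⁅V, B⁆ := by
      rw [modV_conj hEV hg, modV_conj hEV hh, Subgroup.card_map_of_injective (MulEquiv.injective _),
        Subgroup.card_map_of_injective (MulEquiv.injective _)]
    have hne' : ⁅V, A⁆ ≠ ⁅V, B⁆ := by rwa [modV_conj hEV hg, modV_conj hEV hh]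
    have hcA : 2 < Nat.card A := by
      rwa [Subgroup.card_map_of_injective (MulEquiv.injective _)]
    have hcB : 2 < Nat.card B := by
      rwa [Subgroup.card_map_of_injective (MulEquiv.injective _)]
    obtain ⟨hAB, hint⟩ := IH _ hlt E' rfl (hE'E.trans hEV)
      (le_bot_iff.1 ((inf_le_inf_right _ hE'E).trans hf.le)) hOp' A B le_sup_left le_sup_right
      (hsub A hgs) (hsub B hhs) hgi hhi
      (fun l => hne' (Subgroup.eq_of_le_of_card_ge l hcard.ge))
      (fun l => hne' (Subgroup.eq_of_le_of_card_ge l hcard.le).symm) hcA hcB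
    rw [← modV_conj hEV hg, ← modV_conj hEV hh]
    refine ⟨hint, le_centralizer_of_commutator_eq_bot (le_bot_iff.1 (le_trans (le_inf ?_ ?_)
      hint.le))⟩
    · refine Coprime.commutator_le_left_of_le_normalizer ?_
      refine Coprime.le_normalizer_commutator (hhE.trans hEV) ?_
      exact le_trans (Subgroup.commutator_eq_bot_iff_le_centralizer.1
        (by rwa [Subgroup.commutator_comm] at hAB)) (Subgroup.centralizer_le_normalizer _)
    · exact Subgroup.commutator_mono (modV_le hEV hgE) le_rfl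
  -- both modules have the same order
  have hmoves : ∀ F F' : Subgroup G, F ≤ E → F' ≤ E → (F.subgroupOf E).IsSubnormal → IrrOn V F →
      2 < Nat.card F → ¬ ⁅V, F'⁆ ≤ ⁅V, F⁆ →
      ¬ F' ≤ Subgroup.normalizer ((⁅V, F⁆ : Subgroup G) : Set G) →
      ∃ e ∈ F', (⁅V, F⁆).map (MulAut.conj e).toMonoidHom ≠ ⁅V, F⁆ ∧
        (⁅V, F⁆) ⊓ (⁅V, F⁆).map (MulAut.conj e).toMonoidHom = ⊥ := by
    intro F F' hF hF' hs hirr hc hnle hnn
    obtain ⟨e, he, hne⟩ := SetLike.not_le_iff_exists.1 hnn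
    rw [Subgroup.mem_normalizer_iff_map_conj_eq] at hne
    have h1 : (⁅V, F⁆).map (MulAut.conj (1 : G)).toMonoidHom = ⁅V, F⁆ :=
      Subgroup.mem_normalizer_iff_map_conj_eq.1 (one_mem _)
    have h := (key F F' hF hF' hs hirr hc hnle 1 (one_mem E) e (hF' he)
      (by rw [h1]; exact Ne.symm hne)).1
    rw [h1] at h
    exact ⟨e, he, hne, h⟩
  obtain ⟨e, he, hene, hemove⟩ := hmoves F₁ F₂ h₁ h₂ hs₁ hi₁ hc₁ h21 hN₂
  obtain ⟨e', he', -, he'move⟩ := hmoves F₂ F₁ h₂ h₁ hs₂ hi₂ hc₂ h12 hN₁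
  set U := ⁅V, F₁⁆ with hU
  set U' := U.map (MulAut.conj e).toMonoidHom with hU'
  have hUV : U ≤ V := modV_le hEV h₁
  have hle : ⁅V, F₂⁆ ≤ U ⊔ U' := (card_le_of_moves hV hEV hUV h₂ he hemove).2
    (card_le_of_moves hV hEV (modV_le hEV h₂) h₁ he' he'move).1
  have hE : e ∈ E := h₂ he
  have hU'V : U' ≤ V := by
    rintro _ ⟨u, hu, rfl⟩
    exact (Subgroup.mem_normalizer_iff.1 (hEV hE) u).1 (hUV hu)
  have hone : U.map (MulAut.conj (1 : G)).toMonoidHom = U :=
    Subgroup.mem_normalizer_iff_map_conj_eq.1 (one_mem _)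
  have hfixU := fixed_eq_bot hV hEV hf hOp h₁ hs₁ hi₁ hc₁
  have hsplit : ∀ x ∈ U ⊔ U', ∃ a ∈ U, ∃ b ∈ U', a * b = x := by
    intro x hx
    rw [← SetLike.mem_coe, Subgroup.coe_mul_of_right_le_normalizer_left U U' (fun y hy =>
      Subgroup.centralizer_le_normalizer _ fun z hz =>
        commute_of_elem hV (hUV hz) (hU'V hy))] at hx
    obtain ⟨a, ha, b, hb, rfl⟩ := hx
    exact ⟨a, ha, b, hb, rfl⟩
  have hfix' : ∀ b ∈ U', b ∈ Subgroup.centralizer
      ((F₁.map (MulAut.conj e).toMonoidHom : Subgroup G) : Set G) → b = 1 := by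
    rintro _ ⟨b, hb, rfl⟩ hc
    have : b = 1 := (Subgroup.eq_bot_iff_forall _).1 hfixU b ⟨hb, fun f hf' =>
      (MulAut.conj e).injective (by rw [map_mul, map_mul]; exact hc _ ⟨f, hf', rfl⟩)⟩
    rw [this, map_one]
  have horbit : ∀ g ∈ F₂, U.map (MulAut.conj g).toMonoidHom = U ∨
      U.map (MulAut.conj g).toMonoidHom = U' := by
    intro g hg
    by_contra hcon
    push Not at hcon
    obtain ⟨hg1, hg2⟩ := hcon
    set U'' := U.map (MulAut.conj g).toMonoidHom with hU''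
    have hgmove := (key F₁ F₂ h₁ h₂ hs₁ hi₁ hc₁ h21 1 (one_mem E) g (h₂ hg)
      (by rw [hone]; exact Ne.symm hg1)).1
    rw [hone] at hgmove
    have hle' : ⁅V, F₂⁆ ≤ U ⊔ U'' := (card_le_of_moves hV hEV hUV h₂ hg hgmove).2
      (card_le_of_moves hV hEV (modV_le hEV h₂) h₁ he' he'move).1
    have hc1 : F₁.map (MulAut.conj e).toMonoidHom ≤ Subgroup.centralizer (U : Set G) := by
      have h := (key F₁ F₂ h₁ h₂ hs₁ hi₁ hc₁ h21 1 (one_mem E) e hE
        (by rw [hone]; exact Ne.symm hene)).2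
      rwa [hone] at h
    have hc2 : F₁.map (MulAut.conj e).toMonoidHom ≤ Subgroup.centralizer (U'' : Set G) :=
      (key F₁ F₂ h₁ h₂ hs₁ hi₁ hc₁ h21 g (h₂ hg) e hE hg2).2
    refine h21 fun x hx => ?_
    obtain ⟨a, ha, b, hb, rfl⟩ := hsplit x (hle hx)
    have hb1 : b = 1 := by
      refine hfix' b hb ?_
      have h3 : U ⊔ U'' ≤ Subgroup.centralizer
          ((F₁.map (MulAut.conj e).toMonoidHom : Subgroup G) : Set G) :=
        sup_le (Subgroup.le_centralizer_iff.1 hc1) (Subgroup.le_centralizer_iff.1 hc2)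
      have h4 := h3 (mul_mem (le_sup_left (b := U'') (inv_mem ha)) (hle' hx))
      rwa [inv_mul_cancel_left] at h4
    rw [hb1, mul_one]
    exact ha
  have hint : U ⊓ ⁅V, F₂⁆ = ⊥ := by
    refine (Subgroup.eq_bot_iff_forall _).2 fun x hx => ?_
    let f : U → ↥⁅V, F₂⁆ := fun u =>
      ⟨⁅(u : G), e⁆, Subgroup.commutator_mem_commutator (hUV u.2) he⟩
    obtain ⟨a, ha, b, hb, hab⟩ := hsplit x (hle hx.2)
    -- `x = [u, e]` for some `u`
    have hinj : Function.Injective f := by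
      intro a b h
      have h' : (a : G) * (e * (a : G)⁻¹ * e⁻¹) = (b : G) * (e * (b : G)⁻¹ * e⁻¹) := by
        have h1 := congrArg Subtype.val h
        simpa only [f, commutatorElement_def, mul_assoc] using h1
      have h2 : (b : G)⁻¹ * a = e * ((b : G)⁻¹ * a) * e⁻¹ := by
        calc (b : G)⁻¹ * a = (b : G)⁻¹ * ((a : G) * (e * (a : G)⁻¹ * e⁻¹)) * (e * a * e⁻¹) := by
              group
          _ = e * (b : G)⁻¹ * e⁻¹ * (e * a * e⁻¹) := by rw [h']; group
          _ = e * ((b : G)⁻¹ * a) * e⁻¹ := by group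
      have h3 : (b : G)⁻¹ * a ∈ U ⊓ U' :=
        Subgroup.mem_inf.2 ⟨mul_mem (inv_mem b.2) a.2, ⟨_, mul_mem (inv_mem b.2) a.2, h2.symm⟩⟩
      rw [hemove, Subgroup.mem_bot, inv_mul_eq_one] at h3
      exact Subtype.ext h3.symm
    obtain ⟨u, hu⟩ := ((Nat.bijective_iff_injective_and_card f).2 ⟨hinj,
      le_antisymm (Nat.card_le_card_of_injective f hinj)
        (card_le_of_moves hV hEV (modV_le hEV h₂) h₁ he' he'move).1⟩).2 ⟨x, hx.2⟩
    have h1 : ⁅(u : G), e⁆ = x := congrArg Subtype.val hu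
    have h2 : e * (u : G)⁻¹ * e⁻¹ ∈ U ⊓ U' := by
      refine ⟨?_, ⟨_, inv_mem u.2, rfl⟩⟩
      have h5 := mul_mem (inv_mem u.2) hx.1
      rwa [← h1, show (u : G)⁻¹ * ⁅(u : G), e⁆ = e * (u : G)⁻¹ * e⁻¹ by
        rw [commutatorElement_def]; group] at h5
    rw [hemove, Subgroup.mem_bot, conj_eq_one_iff, inv_eq_one] at h2
    rw [← h1, h2, commutatorElement_one_left]
  set S := F₂ ⊓ Subgroup.normalizer (U : Set G) with hS
  have hSU : S ≤ Subgroup.centralizer (U : Set G) :=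
    le_centralizer_of_commutator_eq_bot (le_bot_iff.1 ((le_inf
      (Coprime.commutator_le_left_of_le_normalizer inf_le_right)
      (Subgroup.commutator_mono hUV inf_le_left)).trans hint.le))
  have hmapS : ∀ g s : G, (U.map (MulAut.conj g).toMonoidHom).map (MulAut.conj s).toMonoidHom =
      U.map (MulAut.conj (s * g)).toMonoidHom := fun g s => by
    rw [Subgroup.map_map]
    exact congrArg (fun φ => Subgroup.map φ U) (MonoidHom.ext fun x => by simp [mul_assoc])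
  have hSU' : ∀ s ∈ S, U'.map (MulAut.conj s).toMonoidHom = U' := by
    intro s hs
    rcases horbit _ (mul_mem hs.1 he) with h | h
    · exfalso
      refine hene ?_
      have h2 := congrArg (Subgroup.map (MulAut.conj s⁻¹).toMonoidHom) h
      rw [hmapS, inv_mul_cancel_left,
        map_conj_eq_of_mem (inv_mem hs.2)] at h2
      exact h2
    · rw [hU', hmapS, h]
  have hSn : F₂ ≤ Subgroup.normalizer (S : Set G) := by
    have key2 : ∀ g ∈ F₂, ∀ s ∈ S, g * s * g⁻¹ ∈ S := by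
      intro g hg s hs
      refine Subgroup.mem_inf.2 ⟨mul_mem (mul_mem hg hs.1) (inv_mem hg), ?_⟩
      have h3 : (U.map (MulAut.conj g⁻¹).toMonoidHom).map (MulAut.conj s).toMonoidHom =
          U.map (MulAut.conj g⁻¹).toMonoidHom := by
        rcases horbit g⁻¹ (inv_mem hg) with h | h <;> rw [h]
        · exact Subgroup.mem_normalizer_iff_map_conj_eq.1 hs.2
        · exact hSU' s hs
      rw [Subgroup.mem_normalizer_iff_map_conj_eq]
      show U.map (MulAut.conj (g * s * g⁻¹)).toMonoidHom = U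
      rw [mul_assoc, ← hmapS, ← hmapS, h3, hmapS, mul_inv_cancel, hone]
    intro g hg
    rw [Subgroup.mem_normalizer_iff]
    refine fun s => ⟨key2 g hg s, fun h => ?_⟩
    simpa [mul_assoc] using key2 g⁻¹ (inv_mem hg) _ h
  have hSU'c : S ≤ Subgroup.centralizer (U' : Set G) := by
    intro s hs
    rintro _ ⟨u, hu, rfl⟩
    have hs' : e⁻¹ * s * e⁻¹⁻¹ ∈ S :=
      (Subgroup.mem_normalizer_iff.1 (hSn (inv_mem he)) s).1 hs
    have h := hSU hs' u hu
    show e * u * e⁻¹ * s = s * (e * u * e⁻¹)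
    calc e * u * e⁻¹ * s = e * (u * (e⁻¹ * s * e⁻¹⁻¹)) * e⁻¹ := by group
      _ = e * (e⁻¹ * s * e⁻¹⁻¹ * u) * e⁻¹ := by rw [h]
      _ = s * (e * u * e⁻¹) := by group
  have hS1 : S = ⊥ := by
    refine eq_bot_of_subnormal hOp (inf_le_left.trans h₂) ?_
      (isPGroup_of_stab hV hf (inf_le_left.trans h₂) (modV_le hEV h₂)
        (Subgroup.commutator_mono le_rfl inf_le_left)
        ((le_inf hSU hSU'c).trans ?_))
    · refine Subgroup.IsSubnormal.step _ (F₂.subgroupOf E) (Subgroup.comap_mono inf_le_left) hs₂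
        ((Subgroup.normal_subgroupOf_iff_le_normalizer (Subgroup.comap_mono inf_le_left)).2
          fun x hx => Subgroup.le_normalizer_comap E.subtype (hSn hx))
    · intro s hs
      have h3 : U ⊔ U' ≤ Subgroup.centralizer ({s} : Set G) :=
        sup_le (fun w hw => Subgroup.mem_centralizer_singleton_iff.2 (hs.1 w hw))
          (fun w hw => Subgroup.mem_centralizer_singleton_iff.2 (hs.2 w hw))
      exact fun w hw => Subgroup.mem_centralizer_singleton_iff.1 (h3 (hle hw))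
  have hsub : (F₂ : Set G) ⊆ {1, e} := by
    intro g hg
    rcases horbit g hg with h | h
    · exact Or.inl ((Subgroup.eq_bot_iff_forall _).1 hS1 g
        ⟨hg, Subgroup.mem_normalizer_iff_map_conj_eq.2 h⟩)
    · refine Or.inr (inv_mul_eq_one.1 ((Subgroup.eq_bot_iff_forall _).1 hS1 (e⁻¹ * g)
        (Subgroup.mem_inf.2 ⟨mul_mem (inv_mem he) hg, Subgroup.mem_normalizer_iff_map_conj_eq.2 ?_⟩))).symm
      show U.map (MulAut.conj (e⁻¹ * g)).toMonoidHom = U
      rw [← hmapS, h, hU', hmapS, inv_mul_cancel, hone]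
  have hcard2 : Nat.card F₂ ≤ 2 := by
    rw [show Nat.card F₂ = Set.ncard (F₂ : Set G) from (Nat.card_coe_set_eq _)]
    refine (Set.ncard_le_ncard hsub (Set.toFinite _)).trans ?_
    exact (Set.ncard_insert_le 1 {e}).trans (by simp)
  omega

end Cfsg.Agent.FFPair
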